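import Groth.Agent.CohFlat58.Model
import Mathlib.RingTheory.IsTensorProduct
import Mathlib.Algebra.Category.Ring.Constructions

/-!
Global functions of base changes from the kernel of the Čech differential.
-/

set_option autoImplicit false
set_option maxSynthPendingDepth 6
set_option synthInstance.maxHeartbeats 200000
set_option linter.style.haveILetI false

universe u

open CategoryTheory CategoryTheory.Limits AlgebraicGeometry TopologicalSpace Opposite TensorProduct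

noncomputable section

namespace Groth.Agent.CohFlat58

open Coh69 FF71

variable {A : Type u} [CommRing A] {X : Scheme.{u}} [X.Over (Spec (CommRingCat.of A))]
  {ι : Type u} [Finite ι] (U : ι → X.Opens)
  (hU : ⨆ i, U i = ⊤) (hU' : ∀ (n : ℕ) (i : Fin (n + 1) → ι), IsAffineOpen (cOpen U i))

section natural

variable {B₁ B₂ : Type u} [CommRing B₁] [Algebra A B₁] [CommRing B₂] [Algebra A B₂]
  {X₁ X₂ : Scheme.{u}} (p₁ : X₁ ⟶ Spec (CommRingCat.of B₁)) (g₁ : X₁ ⟶ X)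
  (sq₁ : IsPullback g₁ p₁ (X ↘ Spec (CommRingCat.of A)) (Spec.map (CommRingCat.ofHom (algebraMap A B₁))))
  (p₂ : X₂ ⟶ Spec (CommRingCat.of B₂)) (g₂ : X₂ ⟶ X)
  (sq₂ : IsPullback g₂ p₂ (X ↘ Spec (CommRingCat.of A)) (Spec.map (CommRingCat.ofHom (algebraMap A B₂))))
  (h : X₂ ⟶ X₁) (hg : h ≫ g₁ = g₂) (π : B₁ →ₐ[A] B₂) (hp : h ≫ p₁ = p₂ ≫ Spec.map (CommRingCat.ofHom π.toRingHom))

include hp in
omit [X.Over (Spec (CommRingCat.of A))] [Finite ι] in
theorem rB_comp {V : X₁.Opens} {W : X₂.Opens} (hW : W ≤ h ⁻¹ᵁ V) (b : B₁) :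
    h.appLE V W hW (rB p₁ V b) = rB p₂ W (π b) := by
  show ((Scheme.ΓSpecIso (CommRingCat.of B₁)).inv ≫ p₁.appLE ⊤ V le_top ≫ h.appLE V W hW) b =
    (CommRingCat.ofHom π.toRingHom ≫ (Scheme.ΓSpecIso (CommRingCat.of B₂)).inv ≫ p₂.appLE ⊤ W le_top) b
  rw [Scheme.Hom.appLE_comp_appLE, appLE_congr_hom hp, ← Category.assoc (CommRingCat.ofHom _),
    Scheme.ΓSpecIso_inv_naturality, Category.assoc, Scheme.Hom.appTop, Scheme.Hom.comp_appLE]
  rfl

include hg hp in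
theorem gammaHom_natural (z : Γ(X₁, ⊤)) :
    gammaHom U p₂ g₂ sq₂ hU' (h.appTop z) = π.toLinearMap.rTensor (C₀ U) (gammaHom U p₁ g₁ sq₁ hU' z) := by
  refine (cMap_bijective (n := 1) U p₂ g₂ sq₂ (hU' 0)).1 (funext fun i => ?_)
  have hi : g₂ ⁻¹ᵁ cOpen U i ≤ h ⁻¹ᵁ (g₁ ⁻¹ᵁ cOpen U i) := by subst hg; exact le_rfl
  have key : ∀ x : B₁ ⊗[A] C₀ U, cMap U p₂ g₂ sq₂ (π.toLinearMap.rTensor (C₀ U) x) i =
      h.appLE _ _ hi (cMap U p₁ g₁ sq₁ x i) := fun x => by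
    induction x with
    | zero => simp only [map_zero, Pi.zero_apply]
    | add a b ha hb => simp only [map_add, Pi.add_apply, ha, hb]
    | tmul b c =>
      rw [LinearMap.rTensor_tmul, cMap_apply, cMap_apply, LinearMap.lTensor_tmul, LinearMap.lTensor_tmul,
        locMap_tmul, locMap_tmul, map_mul, rB_comp p₁ p₂ h π hp hi]
      congr 1
      show _ = (g₁.appLE (cOpen U i) (g₁ ⁻¹ᵁ cOpen U i) le_rfl ≫ h.appLE _ _ hi) (c i)
      rw [Scheme.Hom.appLE_comp_appLE, appLE_congr_hom hg]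
      rfl
  rw [key, cMap_gammaHom, cMap_gammaHom]
  show (h.app ⊤ ≫ X₂.presheaf.map _) z = (X₁.presheaf.map _ ≫ h.appLE _ _ hi) z
  rw [Scheme.Hom.map_appLE]
  rfl

include hU hU' sq₁ sq₂ hg hp in
/-- Global functions commute with base change when kernels lift. -/
theorem isPushout_of_kerEpi [Module.Flat A (C₀ U)] [Module.Flat A (C₁ U)]
    (hd : KerEpi (diff (restr (A := A) U 0) (restr (A := A) U 1)) B₁) :
    IsPushout (CommRingCat.ofHom π.toRingHom) (CommRingCat.ofHom (rB p₁ ⊤))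
      (CommRingCat.ofHom (rB p₂ ⊤)) h.appTop := by
  let d := diff (restr (A := A) U 0) (restr (A := A) U 1)
  letI : Algebra B₁ Γ(X₁, ⊤) := (rB p₁ ⊤).toAlgebra
  letI : Algebra B₁ B₂ := π.toRingHom.toAlgebra
  haveI : IsScalarTower A B₁ B₂ := .of_algebraMap_eq fun a => (π.commutes a).symm
  letI : Algebra B₁ Γ(X₂, ⊤) := ((rB p₂ ⊤).comp π.toRingHom).toAlgebra
  let Θ₁ := gammaHom U p₁ g₁ sq₁ hU'
  let Θ₂ := gammaHom U p₂ g₂ sq₂ hU'
  have hcomm : ∀ b, h.appTop.hom (rB p₁ ⊤ b) = rB p₂ ⊤ (π b) := fun b => by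
    show h.app ⊤ (rB p₁ ⊤ b) = rB p₂ ⊤ (π b)
    rw [Scheme.Hom.app_eq_appLE, rB_comp p₁ p₂ h π hp]
    rfl
  let L : B₂ ⊗[B₁] Γ(X₁, ⊤) →+* Γ(X₂, ⊤) := (Algebra.TensorProduct.lift
    ({ rB p₂ ⊤ with commutes' := fun _ => rfl } : B₂ →ₐ[B₁] Γ(X₂, ⊤))
    ({ h.appTop.hom with commutes' := hcomm } : Γ(X₁, ⊤) →ₐ[B₁] Γ(X₂, ⊤))
    fun _ _ => Commute.all _ _).toRingHom
  have hker : ∀ z, d.baseChange B₁ (Θ₁ z) = 0 := fun z =>
    (range_gammaHom U p₁ g₁ sq₁ hU hU' (Θ₁ z)).1 ⟨z, rfl⟩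
  let e₁ : Γ(X₁, ⊤) →ₗ[B₁] LinearMap.ker (d.baseChange B₁) :=
    { toFun := fun z => ⟨Θ₁ z, hker z⟩
      map_add' := fun a b => Subtype.ext (map_add Θ₁ a b)
      map_smul' := fun b z => Subtype.ext (by
        show Θ₁ (rB p₁ ⊤ b * z) = b • Θ₁ z
        rw [map_mul, gammaHom_rB, Algebra.smul_def]
        rfl) }
  have he₁ : Function.Bijective e₁ :=
    ⟨fun a b hab => gammaHom_injective U p₁ g₁ sq₁ hU hU' (congrArg Subtype.val hab),
      fun x => by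
        obtain ⟨z, hz⟩ := (range_gammaHom U p₁ g₁ sq₁ hU hU' x.1).2 x.2
        exact ⟨z, Subtype.ext hz⟩⟩
  let c := AlgebraTensorModule.cancelBaseChange A B₁ B₁ B₂ (C₀ U)
  have hL : ∀ x, Θ₂ (L x) = c ((LinearMap.ker (d.baseChange B₁)).subtype.lTensor B₂ (e₁.lTensor B₂ x)) := fun x => by
    induction x with
    | zero => simp only [map_zero]
    | add a b ha hb => simp only [map_add, ha, hb]
    | tmul b z =>
      show Θ₂ (rB p₂ ⊤ b * h.appTop z) = c (b ⊗ₜ[B₁] Θ₁ z)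
      rw [map_mul, gammaHom_rB, gammaHom_natural U hU' p₁ g₁ sq₁ p₂ g₂ sq₂ h hg π hp]
      show (b ⊗ₜ[A] (1 : C₀ U)) * π.toLinearMap.rTensor (C₀ U) (Θ₁ z) = c (b ⊗ₜ[B₁] Θ₁ z)
      induction Θ₁ z with
      | zero => simp only [map_zero, tmul_zero, mul_zero]
      | add u v hu hv => simp only [map_add, tmul_add, mul_add, hu, hv]
      | tmul b₁ v =>
        rw [LinearMap.rTensor_tmul, Algebra.TensorProduct.tmul_mul_tmul, one_mul,
          AlgebraTensorModule.cancelBaseChange_tmul, Algebra.smul_def, mul_comm]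
        rfl
  obtain ⟨hinj, hex⟩ := exact_of_kerEpi hd.baseChange B₂
  have hbij : Function.Bijective L := by
    constructor
    · intro x y hxy
      exact ((LinearEquiv.ofBijective e₁ he₁).lTensor B₂).injective (hinj (c.injective
        ((hL x).symm.trans ((congrArg Θ₂ hxy).trans (hL y)))))
    · intro y
      have hy := (range_gammaHom U p₂ g₂ sq₂ hU hU' (Θ₂ y)).1 ⟨y, rfl⟩
      obtain ⟨w, hw⟩ := (hex (c.symm (Θ₂ y))).1
        ((AlgebraTensorModule.cancelBaseChange A B₁ B₁ B₂ (C₁ U)).injective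
          (by rw [map_zero, cancel_natural_right, LinearEquiv.apply_symm_apply, hy]))
      obtain ⟨x, rfl⟩ := ((LinearEquiv.ofBijective e₁ he₁).lTensor B₂).surjective w
      refine ⟨x, gammaHom_injective U p₂ g₂ sq₂ hU hU' ((hL x).trans ?_)⟩
      rw [show (e₁.lTensor B₂) x = ((LinearEquiv.ofBijective e₁ he₁).lTensor B₂) x from rfl, hw,
        LinearEquiv.apply_symm_apply]
  refine IsPushout.of_iso (CommRingCat.isPushout_tensorProduct B₁ B₂ Γ(X₁, ⊤)) (Iso.refl _) (Iso.refl _) (Iso.refl _)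
    (RingEquiv.ofBijective L hbij).toCommRingCatIso ?_ ?_ ?_ ?_
  · rfl
  · rfl
  · ext b
    show L (b ⊗ₜ[B₁] 1) = rB p₂ ⊤ b
    show rB p₂ ⊤ b * h.appTop 1 = _
    rw [map_one, mul_one]
  · ext z
    show L (1 ⊗ₜ[B₁] z) = h.appTop z
    show rB p₂ ⊤ 1 * h.appTop z = _
    rw [map_one, one_mul]

end natural

end Groth.Agent.CohFlat58
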