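import Groth.Agent.CohFlat58.Lift
import Groth.Agent.Mum71.BcSections
import Groth.Agent.Var76.FibBC
import Mathlib.RingTheory.TensorProduct.Pi

/-!
Global functions of base changes as equalisers of Čech cochains.
-/

set_option autoImplicit false
set_option maxSynthPendingDepth 6
set_option synthInstance.maxHeartbeats 200000
set_option linter.style.haveILetI false

universe u

open CategoryTheory CategoryTheory.Limits AlgebraicGeometry TopologicalSpace Opposite TensorProduct

noncomputable section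

namespace Groth.Agent.CohFlat58

open Coh69 FF71

variable {A : Type u} [CommRing A] {X : Scheme.{u}} [X.Over (Spec (CommRingCat.of A))]

/-- The structure of algebra on sections. -/
scoped instance secAlg (V : X.Opens) : Algebra A Γ(X, V) := (rA A X V).toAlgebra

/-- Restriction of functions, linearly. -/
def resAlg {V W : X.Opens} (h : W ≤ V) : Γ(X, V) →ₐ[A] Γ(X, W) :=
  { (X.presheaf.map (homOfLE h).op).hom with commutes' := fun a => resO_rA A X h a }

theorem resAlg_apply {V W : X.Opens} (h : W ≤ V) (x : Γ(X, V)) :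
    resAlg (A := A) h x = X.presheaf.map (homOfLE h).op x := rfl

variable {ι : Type u} (U : ι → X.Opens)

/-- Functions on the members of a cover. -/
abbrev C₀ : Type u := ∀ i : Fin 1 → ι, Γ(X, cOpen U i)

/-- Functions on the overlaps of a cover. -/
abbrev C₁ : Type u := ∀ k : Fin 2 → ι, Γ(X, cOpen U k)

/-- The two restrictions to overlaps. -/
def restr (j : Fin 2) : C₀ U →ₐ[A] C₁ U :=
  AlgHom.pi fun k => (resAlg (cOpen_comp_le U k j.succAbove)).comp (Pi.evalAlgHom A _ (k ∘ j.succAbove))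

theorem restr_apply (j : Fin 2) (c : C₀ U) (k : Fin 2 → ι) :
    restr (A := A) U j c k = X.presheaf.map (homOfLE (cOpen_comp_le U k j.succAbove)).op (c (k ∘ j.succAbove)) := rfl

variable {B : Type u} [CommRing B] [Algebra A B] {X' : Scheme.{u}} (p : X' ⟶ Spec (CommRingCat.of B)) (g : X' ⟶ X)

/-- The structure map on sections of the base change. -/
def rB (V : X'.Opens) : B →+* Γ(X', V) :=
  ((Scheme.ΓSpecIso (CommRingCat.of B)).inv ≫ p.appLE ⊤ V le_top).hom

theorem res_rB {V W : X'.Opens} (h : W ≤ V) (b : B) : X'.presheaf.map (homOfLE h).op (rB p V b) = rB p W b := by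
  show (p.appLE ⊤ V le_top ≫ X'.presheaf.map (homOfLE h).op) _ = p.appLE ⊤ W le_top _
  rw [Scheme.Hom.appLE_map]

variable (hsq : IsPullback g p (X ↘ Spec (CommRingCat.of A)) (Spec.map (CommRingCat.ofHom (algebraMap A B))))

theorem appLE_congr_hom {Y Z : Scheme.{u}} {f f' : Y ⟶ Z} (e : f = f') (V : Z.Opens) (W : Y.Opens) (h : W ≤ f ⁻¹ᵁ V) :
    f.appLE V W h = f'.appLE V W (e ▸ h) := by subst e; rfl

include hsq in
theorem appLE_algebraMap {V : X.Opens} {V' : X'.Opens} (h : V' ≤ g ⁻¹ᵁ V) (a : A) :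
    g.appLE V V' h (rA A X V a) = rB p V' (algebraMap A B a) := by
  have e1 := congrArg (fun φ => φ a) (rA_eq_appLE A X V)
  rw [show rA A X V a = _ from e1]
  show ((Scheme.ΓSpecIso (CommRingCat.of A)).inv ≫ (X ↘ Spec (CommRingCat.of A)).appLE ⊤ V le_top ≫ g.appLE V V' h) a =
    (CommRingCat.ofHom (algebraMap A B) ≫ (Scheme.ΓSpecIso (CommRingCat.of B)).inv ≫ p.appLE ⊤ V' le_top) a
  rw [Scheme.Hom.appLE_comp_appLE, appLE_congr_hom hsq.w, ← Category.assoc (CommRingCat.ofHom _),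
    Scheme.ΓSpecIso_inv_naturality, Category.assoc, Scheme.Hom.appTop, Scheme.Hom.comp_appLE]
  rfl

/-- The comparison on one open. -/
def locMap {V : X.Opens} {V' : X'.Opens} (h : V' ≤ g ⁻¹ᵁ V) : B ⊗[A] Γ(X, V) →+* Γ(X', V') :=
  letI : Algebra A Γ(X', V') := ((rB p V').comp (algebraMap A B)).toAlgebra
  (Algebra.TensorProduct.lift ({ rB p V' with commutes' := fun _ => rfl } : B →ₐ[A] Γ(X', V'))
    ({ (g.appLE V V' h).hom with commutes' := fun a => appLE_algebraMap p g hsq h a } : Γ(X, V) →ₐ[A] Γ(X', V'))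
    fun _ _ => Commute.all _ _).toRingHom

theorem locMap_tmul {V : X.Opens} {V' : X'.Opens} (h : V' ≤ g ⁻¹ᵁ V) (b : B) (x : Γ(X, V)) :
    locMap p g hsq h (b ⊗ₜ[A] x) = rB p V' b * g.appLE V V' h x := rfl

include hsq in
theorem locMap_bijective {V : X.Opens} (hV : IsAffineOpen V) :
    Function.Bijective (locMap p g hsq (V := V) (V' := g ⁻¹ᵁ V) le_rfl) := by
  letI : X'.Over (Spec (CommRingCat.of B)) := ⟨p⟩
  obtain ⟨e, he1, he2⟩ := Mum71.exists_sq_equiv (A := A) (B := B) (g := g) (X' := X') hsq hV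
  have hrB : ∀ b, rA B X' (g ⁻¹ᵁ V) b = rB p (g ⁻¹ᵁ V) b := fun b =>
    congrArg (fun φ => φ b) (rA_eq_appLE B X' (g ⁻¹ᵁ V))
  let c := Algebra.TensorProduct.comm A B Γ(X, V)
  have : ∀ x, locMap p g hsq (V := V) (V' := g ⁻¹ᵁ V) le_rfl x = e (c x) := fun x => by
    induction x with
    | zero => simp only [map_zero]
    | add a b ha hb => simp only [map_add, ha, hb]
    | tmul b v =>
      rw [locMap_tmul, Algebra.TensorProduct.comm_tmul, ← hrB, ← he2, ← Scheme.Hom.app_eq_appLE, ← he1, ← map_mul,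
        Algebra.TensorProduct.tmul_mul_tmul, one_mul, mul_one]
  rw [show ⇑(locMap p g hsq (V := V) (V' := g ⁻¹ᵁ V) le_rfl) = e ∘ c from funext this]
  exact e.bijective.comp c.bijective

theorem locMap_res {V W : X.Opens} {V' W' : X'.Opens} (h : V' ≤ g ⁻¹ᵁ V) (h' : W' ≤ g ⁻¹ᵁ W) (hW : W ≤ V)
    (hW' : W' ≤ V') (x : B ⊗[A] Γ(X, V)) :
    X'.presheaf.map (homOfLE hW').op (locMap p g hsq h x) =
      locMap p g hsq h' ((resAlg (A := A) hW).toLinearMap.lTensor B x) := by
  induction x with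
  | zero => simp only [map_zero]
  | add a b ha hb => simp only [map_add, ha, hb]
  | tmul b v =>
    rw [LinearMap.lTensor_tmul, locMap_tmul, locMap_tmul, map_mul, res_rB]
    congr 1
    show (g.appLE V V' h ≫ X'.presheaf.map (homOfLE hW').op) v =
      (X.presheaf.map (homOfLE hW).op ≫ g.appLE W W' h') v
    rw [Scheme.Hom.appLE_map, Scheme.Hom.map_appLE]

variable {n : ℕ}

/-- The comparison on cochains. -/
def cMap : B ⊗[A] (∀ i : Fin n → ι, Γ(X, cOpen U i)) →+* ∀ i : Fin n → ι, Γ(X', g ⁻¹ᵁ cOpen U i) :=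
  RingHom.pi fun i => (locMap p g hsq le_rfl).comp
    (Algebra.TensorProduct.map (AlgHom.id A B) (Pi.evalAlgHom A _ i)).toRingHom

theorem cMap_apply (x : B ⊗[A] (∀ i : Fin n → ι, Γ(X, cOpen U i))) (i : Fin n → ι) :
    cMap U p g hsq x i = locMap p g hsq le_rfl ((LinearMap.proj i).lTensor B x) := rfl

variable [Finite ι]

include hsq in
theorem cMap_bijective (hU' : ∀ i : Fin n → ι, IsAffineOpen (cOpen U i)) :
    Function.Bijective (cMap (n := n) U p g hsq) := by
  letI := Fintype.ofFinite (Fin n → ι)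
  letI := Classical.decEq (Fin n → ι)
  let e := Algebra.TensorProduct.piRight A A B (fun i : Fin n → ι => Γ(X, cOpen U i))
  let φ : ∀ i : Fin n → ι, B ⊗[A] Γ(X, cOpen U i) → Γ(X', g ⁻¹ᵁ cOpen U i) := fun i => locMap p g hsq le_rfl
  have : ∀ x, cMap (n := n) U p g hsq x = fun i => φ i (e x i) := fun x => by
    funext i
    induction x with
    | zero => simp only [φ, map_zero, Pi.zero_apply]
    | add a b ha hb => simp only [φ, map_add, Pi.add_apply, ha, hb]
    | tmul b c => rfl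
  rw [show ⇑(cMap (n := n) U p g hsq) = Pi.map φ ∘ e from funext this]
  exact ((Function.Bijective.piMap fun i => locMap_bijective p g hsq (hU' i))).comp e.bijective

theorem cMap_restr (j : Fin 2) (x : B ⊗[A] C₀ U) (k : Fin 2 → ι)
    (h : g ⁻¹ᵁ cOpen U k ≤ g ⁻¹ᵁ cOpen U (k ∘ j.succAbove)) :
    cMap U p g hsq ((restr (A := A) U j).toLinearMap.lTensor B x) k =
      X'.presheaf.map (homOfLE h).op (cMap U p g hsq x (k ∘ j.succAbove)) := by
  rw [cMap_apply, cMap_apply, locMap_res p g hsq le_rfl le_rfl (cOpen_comp_le U k j.succAbove),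
    ← LinearMap.comp_apply, ← LinearMap.lTensor_comp, ← LinearMap.comp_apply, ← LinearMap.lTensor_comp]
  rfl

variable (hU : ⨆ i, U i = ⊤) (hU' : ∀ (n : ℕ) (i : Fin (n + 1) → ι), IsAffineOpen (cOpen U i))

/-- Global functions as cochains. -/
def gammaHom : Γ(X', ⊤) →+* B ⊗[A] C₀ U :=
  (RingEquiv.ofBijective _ (cMap_bijective (n := 1) U p g hsq (hU' 0))).symm.toRingHom.comp
    (RingHom.pi fun i => (X'.presheaf.map (homOfLE (le_top : g ⁻¹ᵁ cOpen U i ≤ ⊤)).op).hom)

theorem cMap_gammaHom (z : Γ(X', ⊤)) (i : Fin 1 → ι) :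
    cMap U p g hsq (gammaHom U p g hsq hU' z) i = X'.presheaf.map (homOfLE le_top).op z :=
  congrFun ((RingEquiv.ofBijective _ (cMap_bijective (n := 1) U p g hsq (hU' 0))).apply_symm_apply _) i

theorem gammaHom_rB (b : B) : gammaHom U p g hsq hU' (rB p ⊤ b) = b ⊗ₜ[A] 1 := by
  refine (cMap_bijective (n := 1) U p g hsq (hU' 0)).1 (funext fun i => ?_)
  rw [cMap_gammaHom, res_rB, cMap_apply, LinearMap.lTensor_tmul, locMap_tmul]
  show _ = _ * g.appLE _ _ _ (1 : Γ(X, cOpen U i))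
  rw [map_one, mul_one]

include hU in
theorem iSup_preimage : ⨆ i : Fin 1 → ι, g ⁻¹ᵁ cOpen U i = ⊤ := by
  refine eq_top_iff.2 fun x _ => Opens.mem_iSup.2 ?_
  obtain ⟨i, hi⟩ := Opens.mem_iSup.1 (hU.ge (show g x ∈ (⊤ : X.Opens) from trivial))
  exact ⟨fun _ => i, (mem_cOpen U _ _).2 fun _ => hi⟩

include hU in
theorem gammaHom_injective : Function.Injective (gammaHom U p g hsq hU') := fun a b h => by
  refine TopCat.Sheaf.eq_of_locally_eq' X'.sheaf (fun i => g ⁻¹ᵁ cOpen U i) ⊤ (fun i => homOfLE le_top)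
    (iSup_preimage U g hU).ge a b fun i => ?_
  exact (cMap_gammaHom U p g hsq hU' a i).symm.trans ((congrArg (fun t => cMap U p g hsq t i) h).trans
    (cMap_gammaHom U p g hsq hU' b i))

include hU in
theorem range_gammaHom (x : B ⊗[A] C₀ U) :
    x ∈ Set.range (gammaHom U p g hsq hU') ↔
      (diff (restr (A := A) U 0) (restr (A := A) U 1)).lTensor B x = 0 := by
  have hle : ∀ (k : Fin 2 → ι) (j : Fin 2), g ⁻¹ᵁ cOpen U k ≤ g ⁻¹ᵁ cOpen U (k ∘ j.succAbove) := fun k j y hy =>
    cOpen_comp_le U k j.succAbove hy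
  rw [diff, LinearMap.lTensor_sub, LinearMap.sub_apply, sub_eq_zero]
  constructor
  · rintro ⟨z, rfl⟩
    refine (cMap_bijective (n := 2) U p g hsq (hU' 1)).1 (funext fun k => ?_)
    rw [cMap_restr U p g hsq 0 _ k (hle k 0), cMap_restr U p g hsq 1 _ k (hle k 1), cMap_gammaHom, cMap_gammaHom,
      Var76.FibBC.res_res, Var76.FibBC.res_res]
    rfl
  · intro h
    have hc : TopCat.Presheaf.IsCompatible X'.sheaf.obj (fun i => g ⁻¹ᵁ cOpen U i) (fun i => cMap U p g hsq x i) := by
      intro i i'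
      let k : Fin 2 → ι := ![i' 0, i 0]
      have hk0 : k ∘ (0 : Fin 2).succAbove = i := funext fun j => by fin_cases j <;> rfl
      have hk1 : k ∘ (1 : Fin 2).succAbove = i' := funext fun j => by fin_cases j <;> rfl
      have hW : g ⁻¹ᵁ cOpen U i ⊓ g ⁻¹ᵁ cOpen U i' ≤ g ⁻¹ᵁ cOpen U k := fun y hy =>
        (mem_cOpen U k _).2 fun j => by
          fin_cases j
          · exact (mem_cOpen U i' _).1 hy.2 0
          · exact (mem_cOpen U i _).1 hy.1 0
      have key := congrArg (fun t => X'.presheaf.map (homOfLE hW).op (cMap U p g hsq t k)) h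
      simp only [cMap_restr U p g hsq 0 _ k (hle k 0), cMap_restr U p g hsq 1 _ k (hle k 1),
        Var76.FibBC.res_res] at key
      have hcongr : ∀ {a b : Fin 1 → ι} (_ : a = b) (W : X'.Opens) (h₁ : W ≤ g ⁻¹ᵁ cOpen U a) (h₂ : W ≤ g ⁻¹ᵁ cOpen U b),
          X'.presheaf.map (homOfLE h₁).op (cMap U p g hsq x a) = X'.presheaf.map (homOfLE h₂).op (cMap U p g hsq x b) := by
        intro a b e W h₁ h₂; subst e; rfl
      exact (hcongr hk0.symm _ inf_le_left (hW.trans (hle k 0))).trans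
        (key.trans (hcongr hk1 _ (hW.trans (hle k 1)) inf_le_right))
    obtain ⟨z, hz, -⟩ := TopCat.Sheaf.existsUnique_gluing' X'.sheaf (fun i => g ⁻¹ᵁ cOpen U i) ⊤
      (fun i => homOfLE le_top) (iSup_preimage U g hU).ge (fun i => cMap U p g hsq x i) hc
    exact ⟨z, (cMap_bijective (n := 1) U p g hsq (hU' 0)).1 (funext fun i =>
        (cMap_gammaHom U p g hsq hU' z i).trans (hz i))⟩

end Groth.Agent.CohFlat58
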