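import Groth.Agent.CohFlat58.Etale
import Groth.Agent.Stein58.SteinFactor
import Groth.Agent.Stein58.FinitePoints
import Groth.Agent.Unr55.GeomCount
import Groth.Agent.Sk62.GeomRedFibre
import Groth.Agent.FBase64.PointCmp
import Groth.Agent.S1335
import Groth.Agent.S9735

/-!
The number of geometric connected components in a flat proper family with geometrically reduced fibres.
-/

set_option autoImplicit false
set_option maxSynthPendingDepth 6
set_option linter.style.haveILetI false

universe u

open CategoryTheory CategoryTheory.Limits AlgebraicGeometry TopologicalSpace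

noncomputable section

namespace Groth.Agent.CohFlat58

theorem hred_of_geometricallyReduced {X S : Scheme.{u}} (f : X ⟶ S) [GeometricallyReduced f]
    (Ω : Type u) [Field Ω] [IsAlgClosed Ω] (σ : Spec (CommRingCat.of Ω) ⟶ S) : IsReduced (pullback f σ) :=
  GeometricallyReduced.geometrically_isReduced _ _ _ (IsPullback.of_hasPullback f σ)

theorem nGeomConnComp_of_isFinite {Q S : Scheme.{u}} (q : Q ⟶ S) [IsFinite q] (s : S) :
    MoreMor.nGeomConnComp q s = ENat.card ↥(MoreMor.geomFiber q s) := by
  haveI : IsFinite (q.fiberToSpecResidueField s) := MorphismProperty.pullback_snd (P := @IsFinite) _ _ ‹IsFinite q›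
  let a : Spec (CommRingCat.of (SeparableClosure (S.residueField s))) ⟶ Spec (S.residueField s) :=
    Spec.map (CommRingCat.ofHom (algebraMap (S.residueField s) (SeparableClosure (S.residueField s))))
  let g : MoreMor.geomFiber q s ⟶ Spec (CommRingCat.of (SeparableClosure (S.residueField s))) :=
    pullback.snd (q.fiberToSpecResidueField s) a
  haveI : IsFinite g := MorphismProperty.pullback_snd (P := @IsFinite) _ _ inferInstance
  haveI : DiscreteTopology (MoreMor.geomFiber q s) := Stein58.discreteTopology_of_isFinite g
  have hb : Function.Bijective (ConnectedComponents.mk : MoreMor.geomFiber q s → _) :=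
    ⟨fun a b h => by
      have h' := ConnectedComponents.coe_eq_coe.1 h
      simp only [connectedComponent_eq_singleton, Set.singleton_eq_singleton_iff] at h'
      exact h', ConnectedComponents.surjective_coe⟩
  exact (ENat.card_congr (Equiv.ofBijective _ hb)).symm

theorem isLocallyConstant_nGeomConnComp {X S : Scheme.{u}} (f : X ⟶ S) [IsProper f] [Flat f]
    [LocallyOfFinitePresentation f]
    (hred : ∀ (Ω : Type u) [Field Ω] [IsAlgClosed Ω] (σ : Spec (CommRingCat.of Ω) ⟶ S), IsReduced (pullback f σ)) :
    IsLocallyConstant fun s : S => MoreMor.nGeomConnComp f s := by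
  obtain ⟨hfin, het⟩ := isFinite_etale_fromNormalization f hred
  haveI := hfin; haveI := het
  convert (Unr55.isLocallyConstant_one f.fromNormalization).comp (fun n : ℤ => ((n.toNat : ℕ) : ℕ∞)) using 1
  funext s
  rw [(Stein58.nGeomConnComp_fromNormalization f s).2, nGeomConnComp_of_isFinite]
  exact (Unr55.card_geomFiber f.fromNormalization s).1

theorem isOpen_setOf_geometricallyReduced_fibre {X S : Scheme.{u}} (f : X ⟶ S) [IsProper f] [Flat f]
    [LocallyOfFinitePresentation f] :
    IsOpen {s : S | GeometricallyReduced (f.fiberToSpecResidueField s)} := by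
  rw [← isClosed_compl_iff]
  convert f.isClosedMap _ (Sk62.isOpen_isGeomReducedAt_fibre f).isClosed_compl using 1
  ext s
  simp only [Set.mem_compl_iff, Set.mem_ofPred_eq, Set.mem_image]
  constructor
  · intro h
    obtain ⟨z, hz⟩ := not_forall.1 fun hh => h ((FBase64.geometricallyReduced_iff_forall (k := S.residueField s) (f.fiberToSpecResidueField s)).2 hh)
    obtain ⟨x, hx, rfl⟩ : ∃ x, f.fiberι s z = x ∧ f x = s :=
      ⟨_, rfl, by simpa using (f.range_fiberι s).le ⟨z, rfl⟩⟩
    refine ⟨x, fun h => hz ?_, rfl⟩
    rwa [(f.fiberι (f x)).injective (hx.trans (f.fiberι_asFiber x).symm)]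
  · rintro ⟨x, hx, rfl⟩ h
    exact hx ((FBase64.geometricallyReduced_iff_forall (k := S.residueField (f x)) (f.fiberToSpecResidueField (f x))).1 h _)

theorem isOpen_setOf_geometricallyReduced_count {X S : Scheme.{u}} (f : X ⟶ S) [IsProper f] [Flat f]
    [LocallyOfFinitePresentation f] (k : ℕ∞) :
    IsOpen {s : S | GeometricallyReduced (f.fiberToSpecResidueField s) ∧ MoreMor.nGeomConnComp f s = k} := by
  let U : S.Opens := ⟨_, isOpen_setOf_geometricallyReduced_fibre f⟩
  haveI : IsProper (f ∣_ U) := IsZariskiLocalAtTarget.restrict ‹IsProper f› U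
  have hsq := (isPullback_morphismRestrict f U).flip
  haveI : GeometricallyReduced (f ∣_ U) := by
    rw [GeometricallyReduced.eq_geometrically, geometrically_iff_forall_fiberToSpecResidueField]
    intro u
    have : u ∈ {y' : (U : Scheme.{u}) | GeometricallyReduced ((f ∣_ U).fiberToSpecResidueField y')} := by
      rw [S9735.result f U.ι (f ∣_ U) _ hsq]
      exact u.2
    exact (GeometricallyReduced.eq_geometrically ▸ this :)
  have hc := (isLocallyConstant_nGeomConnComp (f ∣_ U) (hred_of_geometricallyReduced _)).isOpen_fiber k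
  convert U.ι.isOpenEmbedding.isOpenMap _ hc using 1
  ext s
  constructor
  · rintro ⟨hs, hk⟩
    exact ⟨⟨s, hs⟩, show MoreMor.nGeomConnComp (f ∣_ U) _ = k by rw [S1335.result f _ _ U.ι hsq]; exact hk, rfl⟩
  · rintro ⟨u, hu, rfl⟩
    refine ⟨u.2, ?_⟩
    rw [← S1335.result f _ _ U.ι hsq]
    exact hu

end Groth.Agent.CohFlat58
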