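import Groth.Agent.CohFlat58.General
import Groth.Agent.Mum71.BcZero
import Groth.Agent.Mum71.BcSplit
import Groth.Agent.PP93.UnitGen
import Groth.Agent.FBase64.ReducedModField
import Groth.Agent.Serre71.HHLin

/-!
The base change map of the structure sheaf in degree zero at a fibre with constant functions.
-/

set_option autoImplicit false
set_option maxSynthPendingDepth 6
set_option synthInstance.maxHeartbeats 200000
set_option linter.style.haveILetI false
set_option backward.isDefEq.respectTransparency.types false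

universe u

open CategoryTheory CategoryTheory.Limits AlgebraicGeometry TopologicalSpace Opposite

noncomputable section

namespace Groth.Agent.CohFlat58

variable {X S : Scheme.{u}} (f : X ⟶ S)

/-- Constant functions on a fibre make the degree zero base change map surjective. -/
theorem epi_bc0_of_bijective (y : S) (h : Function.Surjective (f.fiberToSpecResidueField y).appTop) :
    Epi (CohBC.bc0 f (S.fromSpecResidueField y) (f.fiberToSpecResidueField y) (f.fiberι y) (f.fiber_fac y)
      (Coh.structureModule X)) := by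
  let g := S.fromSpecResidueField y
  let f' := f.fiberToSpecResidueField y
  let ι := f.fiberι y
  let O := Coh.structureModule X
  haveI : Subsingleton (Spec (S.residueField y)) := inferInstanceAs (Subsingleton (PrimeSpectrum (S.residueField y)))
  refine (Mum71.app_top_surjective_iff _).2 fun m => ?_
  obtain ⟨c, hc⟩ := (PP93.bijective_smul_unitGen ι (f' ⁻¹ᵁ (⊤ : (Spec (S.residueField y)).Opens))).2 m
  obtain ⟨b, hb⟩ := h c
  let one : Γ((Scheme.Modules.pushforward f).obj O, ⊤) := OmegaSh.strSect X ⊤ 1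
  let x : Γ((Scheme.Modules.pullback g).obj ((Scheme.Modules.pushforward f).obj O), (⊤ : (Spec (S.residueField y)).Opens)) :=
    QCPull72.unitSec g ((Scheme.Modules.pushforward f).obj O) (le_refl (g ⁻¹ᵁ ⊤)) one
  refine ⟨b • x, ?_⟩
  rw [Scheme.Modules.Hom.app_smul]
  have key : (CohBC.bc0 f g f' ι (f.fiber_fac y) O).app ⊤ x =
        (PP93.unitGen ι (f' ⁻¹ᵁ (⊤ : (Spec (S.residueField y)).Opens)) : _) := by
    change (CohBC.bc0 f g f' ι (f.fiber_fac y) O).app (g ⁻¹ᵁ ⊤)
      (QCPull72.unitSec g ((Scheme.Modules.pushforward f).obj O) (le_refl (g ⁻¹ᵁ ⊤)) one) = _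
    have h1 : (Scheme.Modules.pullbackPushforwardAdjunction g).unit.app ((Scheme.Modules.pushforward f).obj O) ≫
        (Scheme.Modules.pushforward g).map (CohBC.bc0 f g f' ι (f.fiber_fac y) O) =
          CohBC.bc0Adj f g f' ι (f.fiber_fac y) O :=
      ((Scheme.Modules.pullbackPushforwardAdjunction g).homEquiv_unit _ _ _).symm.trans
        (Equiv.apply_symm_apply _ _)
    rw [QCPull72.unitSec, QC70.app_res]
    refine (congrArg (QC70.res _ (le_refl (g ⁻¹ᵁ ⊤))) ((congr(Scheme.Modules.Hom.app $h1 ⊤ one)).trans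
      (Mum71.bc0Adj_app ι f' g (f.fiber_fac y) one))).trans ?_
    show QC70.res ((Scheme.Modules.pullback ι).obj O)
        (f'.preimage_mono (show g ⁻¹ᵁ (⊤ : S.Opens) ≤ g ⁻¹ᵁ ⊤ from le_rfl))
        (QC70.res ((Scheme.Modules.pullback ι).obj O) (CohCmp.sqLE f g f' ι (f.fiber_fac y) ⊤)
          ((QCPull72.pullUnit ι O).app (f ⁻¹ᵁ ⊤) one)) =
      QC70.res ((Scheme.Modules.pullback ι).obj O) (show f' ⁻¹ᵁ (⊤ : (Spec (S.residueField y)).Opens) ≤ ι ⁻¹ᵁ (⊤ : X.Opens) from le_top)
        ((QCPull72.pullUnit ι O).app ⊤ (OmegaSh.strSect X ⊤ 1))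
    rw [QC70.res_res]
    exact rfl
  rw [key, ← hc, ← hb]
  rfl

end Groth.Agent.CohFlat58
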