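import Groth.Agent.CohFlat58.Global
import Groth.Agent.Stein58.PushforwardStructure
import Mathlib.RingTheory.RingHom.Etale
import Mathlib.RingTheory.Smooth.Fiber
import Mathlib.RingTheory.Kaehler.Basic
import Mathlib.AlgebraicGeometry.Morphisms.Etale
import Mathlib.AlgebraicGeometry.Morphisms.Finite

/-!
The Stein factor of a flat proper morphism with geometrically reduced fibres is finite étale.
-/

set_option autoImplicit false
set_option maxSynthPendingDepth 6
set_option linter.style.haveILetI false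

universe u

open CategoryTheory CategoryTheory.Limits AlgebraicGeometry TopologicalSpace Polynomial

noncomputable section

namespace Groth.Agent.CohFlat58

/-- A finite algebra whose closed fibres consist of separable roots is unramified. -/
theorem formallyUnramified_of_roots {A B : Type u} [CommRing A] [CommRing B] [Algebra A B] [Module.Finite A B]
    (h : ∀ (p : Ideal A), p.IsMaximal → ∀ z : B, ∃ P : Polynomial A,
      aeval z P ∈ p.map (algebraMap A B) ∧ ∃ u, aeval z (derivative P) * u - 1 ∈ p.map (algebraMap A B)) :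
    Algebra.FormallyUnramified A B := by
  haveI : Algebra.IsIntegral A B := Algebra.IsIntegral.of_finite A B
  rw [Algebra.formallyUnramified_iff]
  have hfg : (⊤ : Submodule B Ω[B⁄A]).FG := Module.Finite.fg_top
  have hle : ∀ M : Ideal B, M.IsMaximal → (⊤ : Submodule B Ω[B⁄A]) ≤ M • ⊤ := by
    intro M hM
    let p := M.comap (algebraMap A B)
    haveI hp : p.IsMaximal := Ideal.isMaximal_comap_of_isIntegral_of_isMaximal M
    have hpM : p.map (algebraMap A B) ≤ M := Ideal.map_comap_le
    have hd : ∀ e ∈ p.map (algebraMap A B), KaehlerDifferential.D A B e ∈ M • (⊤ : Submodule B Ω[B⁄A]) := by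
      intro e he
      induction he using Submodule.span_induction with
      | mem x hx =>
        obtain ⟨a, -, rfl⟩ := hx
        simp
      | zero => simp
      | add x y _ _ hx hy => rw [map_add]; exact add_mem hx hy
      | smul b x hx' hx =>
        rw [smul_eq_mul, Derivation.leibniz]
        exact add_mem (Submodule.smul_mem _ _ hx) (Submodule.smul_mem_smul (hpM hx') trivial)
    rw [← KaehlerDifferential.span_range_derivation, Submodule.span_le]
    rintro _ ⟨z, rfl⟩
    obtain ⟨P, hP, u, hu⟩ := h p hp z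
    have h1 : aeval z (derivative P) • KaehlerDifferential.D A B z ∈ M • (⊤ : Submodule B Ω[B⁄A]) := by
      rw [← Derivation.map_aeval]
      exact hd _ hP
    have h2 := sub_mem (Submodule.smul_mem _ u h1)
      (Submodule.smul_mem_smul (n := KaehlerDifferential.D A B z) (hpM hu) trivial)
    rw [SetLike.mem_coe, KaehlerDifferential.span_range_derivation]
    convert h2 using 1
    rw [smul_smul, sub_smul, one_smul, mul_comm]
    abel
  refine ⟨fun x y => ?_⟩
  suffices hz : ∀ w : Ω[B⁄A], w = 0 by rw [hz x, hz y]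
  intro w
  by_contra hw
  obtain ⟨M, hM, hMle⟩ := Ideal.exists_le_maximal _ (show (Submodule.annihilator (⊤ : Submodule B Ω[B⁄A])) ≠ ⊤ from
    fun e => hw (by simpa using Submodule.mem_annihilator.1 (e.ge (trivial : (1 : B) ∈ _)) w trivial))
  obtain ⟨r, hr, hr0⟩ := Submodule.exists_sub_one_mem_and_smul_eq_zero_of_fg_of_le_smul M _ hfg (hle M hM)
  have hrM : r ∈ M := hMle (Submodule.mem_annihilator.2 hr0)
  exact hM.ne_top ((Ideal.eq_top_iff_one M).2 (by simpa using sub_mem hrM hr))

theorem sepRoots_of_isAlgClosed {X S : Scheme.{u}} (f : X ⟶ S) [IsProper f]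
    (hred : ∀ (Ω : Type u) [Field Ω] [IsAlgClosed Ω] (σ : Spec (CommRingCat.of Ω) ⟶ S), IsReduced (pullback f σ))
    {k : Type u} [Field k] (t : Spec (CommRingCat.of k) ⟶ S) {Z : Scheme.{u}} (a : Z ⟶ X)
    (q : Z ⟶ Spec (CommRingCat.of k)) (h : IsPullback a q f t) : SepRoots q := by
  haveI : IsProper q := MorphismProperty.of_isPullback h ‹IsProper f›
  let Ω := AlgebraicClosure k
  let g := Spec.map (CommRingCat.ofHom (algebraMap k Ω))
  haveI := hred Ω (g ≫ t)
  haveI : IsReduced (pullback q g) :=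
    isReduced_of_isOpenImmersion ((IsPullback.of_hasPullback q g).paste_horiz h).isoPullback.hom
  exact sepRoots_of_isReduced q g _ _ (IsPullback.of_hasPullback q g)

theorem formallyUnramified_appTop {X S : Scheme.{u}} (f : X ⟶ S) [IsProper f] (hf : GammaBC f)
    (hred : ∀ (Ω : Type u) [Field Ω] [IsAlgClosed Ω] (σ : Spec (CommRingCat.of Ω) ⟶ S), IsReduced (pullback f σ))
    {T XT : Scheme.{u}} [IsAffine T] (t : T ⟶ S) (a : XT ⟶ X) (q : XT ⟶ T) (hq : IsPullback a q f t) :
    q.appTop.hom.Etale := by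
  obtain ⟨⟨hfin, hfp⟩, hflat, hbc⟩ := hf t a q hq
  refine RingHom.Etale.iff_flat_and_formallyUnramified.2 ⟨hflat, ?_, hfp⟩
  letI := q.appTop.hom.toAlgebra
  haveI : Module.Finite Γ(T, ⊤) Γ(XT, ⊤) := hfin
  show Algebra.FormallyUnramified Γ(T, ⊤) Γ(XT, ⊤)
  refine formallyUnramified_of_roots fun p hp z => ?_
  letI := Ideal.Quotient.field p
  let π : Spec (CommRingCat.of (Γ(T, ⊤) ⧸ p)) ⟶ T :=
    Spec.map (CommRingCat.ofHom (Ideal.Quotient.mk p)) ≫ T.isoSpec.inv
  have hsq := IsPullback.of_hasPullback q π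
  have hpo := hbc π (pullback.fst q π) (pullback.snd q π) hsq
  obtain ⟨P, h0, h1⟩ := sepRoots_of_isAlgClosed f hred (π ≫ t) _ _ (hsq.paste_horiz hq) ((pullback.fst q π).appTop z)
  have hπ : π.appTop = CommRingCat.ofHom (Ideal.Quotient.mk p) ≫ (Scheme.ΓSpecIso _).inv := by
    have e : T.isoSpec.inv.appTop = (Scheme.ΓSpecIso Γ(T, ⊤)).inv := by
      haveI : IsIso T.isoSpec.hom.appTop := inferInstanceAs (IsIso (T.isoSpec.hom.app ⊤))
      rw [← cancel_mono T.isoSpec.hom.appTop, ← Scheme.Hom.comp_appTop, Iso.hom_inv_id, Scheme.Hom.id_appTop]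
      show 𝟙 _ = _ ≫ T.toSpecΓ.appTop
      rw [Scheme.toSpecΓ_appTop, Iso.inv_hom_id]
    rw [Scheme.Hom.comp_appTop, e]
    exact (Scheme.ΓSpecIso_inv_naturality _).symm
  have hsurj : Function.Surjective π.appTop := by
    rw [hπ]
    exact ((Scheme.ΓSpecIso _).commRingCatIsoToRingEquiv.symm.surjective).comp Ideal.Quotient.mk_surjective
  obtain ⟨P, rfl⟩ := Polynomial.map_surjective π.appTop.hom hsurj P
  -- the kernel of the restriction to the fibre
  have hker : ∀ b : Γ(XT, ⊤), (pullback.fst q π).appTop b = 0 → b ∈ p.map (algebraMap Γ(T, ⊤) Γ(XT, ⊤)) := by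
    intro b hb
    have hsq' : CommSq π.appTop q.appTop (CommRingCat.ofHom (Ideal.quotientMap (p.map (algebraMap Γ(T, ⊤) Γ(XT, ⊤)))
        (algebraMap Γ(T, ⊤) Γ(XT, ⊤)) Ideal.le_comap_map) |> ((Scheme.ΓSpecIso (CommRingCat.of (Γ(T, ⊤) ⧸ p))).hom ≫ ·))
        (CommRingCat.ofHom (Ideal.Quotient.mk (p.map (algebraMap Γ(T, ⊤) Γ(XT, ⊤))))) := ⟨by
      rw [hπ, Category.assoc, Iso.inv_hom_id_assoc]
      rfl⟩
    have := congrArg (fun m => m b) (hpo.inr_desc _ _ hsq'.w)
    rw [← Ideal.Quotient.eq_zero_iff_mem]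
    refine this.symm.trans ?_
    rw [CommRingCat.comp_apply, hb, map_zero]
  have hcomm : (pullback.fst q π).appTop.hom.comp q.appTop.hom = (pullback.snd q π).appTop.hom.comp π.appTop.hom :=
    congrArg CommRingCat.Hom.hom hpo.w.symm
  have hev : ∀ Q : Polynomial Γ(T, ⊤), (pullback.fst q π).appTop (aeval z Q) =
      (Q.map π.appTop.hom).eval₂ (pullback.snd q π).appTop.hom ((pullback.fst q π).appTop z) := fun Q => by
    rw [eval₂_map, ← hcomm]
    exact hom_eval₂ _ _ _ _
  have hfst : Function.Surjective (pullback.fst q π).appTop := by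
    intro w
    have hc := CommRingCat.closure_range_union_range_eq_top_of_isPushout hpo
    induction (hc.ge (Subring.mem_top w)) using Subring.closure_induction with
    | mem x hx =>
      rcases hx with ⟨c, rfl⟩ | ⟨c, rfl⟩
      · obtain ⟨c, rfl⟩ := hsurj c
        exact ⟨q.appTop c, congrArg (fun φ => φ c) hcomm⟩
      · exact ⟨c, rfl⟩
    | zero => exact ⟨0, map_zero _⟩
    | one => exact ⟨1, map_one _⟩
    | add x y _ _ hx hy => obtain ⟨a, rfl⟩ := hx; obtain ⟨b, rfl⟩ := hy; exact ⟨a + b, map_add _ _ _⟩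
    | neg x _ hx => obtain ⟨a, rfl⟩ := hx; exact ⟨-a, map_neg _ _⟩
    | mul x y _ _ hx hy => obtain ⟨a, rfl⟩ := hx; obtain ⟨b, rfl⟩ := hy; exact ⟨a * b, map_mul _ _ _⟩
  obtain ⟨v, hv⟩ := h1.exists_right_inv
  obtain ⟨u, rfl⟩ := hfst v
  refine ⟨P, hker _ ((hev P).trans h0), u, hker _ ?_⟩
  rw [map_sub, map_mul, hev, ← derivative_map, map_one]
  exact sub_eq_zero.2 hv

theorem isIso_appTop_restrict {X Y : Scheme.{u}} (θ : X ⟶ Y) (h : ∀ V, IsIso (θ.app V)) (W : Y.Opens) :
    IsIso (θ ∣_ W).appTop := by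
  rw [morphismRestrict_appTop]
  exact IsIso.comp_isIso' (h _) (X.presheaf.mapIso (eqToIso (image_morphismRestrict_preimage θ W ⊤)).op).isIso_hom

/-- Properties of the sections of a composite descend to the second map when the first is acyclic. -/
theorem of_comp_appTop {X Y S : Scheme.{u}} (θ : X ⟶ Y) (φ : Y ⟶ S) (h : ∀ V, IsIso (θ.app V))
    {P : ∀ {R S : Type u} [CommRing R] [CommRing S], (R →+* S) → Prop} (hP : RingHom.RespectsIso P)
    {g : X ⟶ S} (hg : θ ≫ φ = g) (U : S.Opens) (hU : P (g ∣_ U).appTop.hom) : P (φ ∣_ U).appTop.hom := by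
  subst hg
  haveI := isIso_appTop_restrict θ h (φ ⁻¹ᵁ U)
  rw [morphismRestrict_comp, Scheme.Hom.comp_appTop] at hU
  exact (hP.cancel_right_isIso _ _).1 hU

theorem hred_restrict {X S : Scheme.{u}} (f : X ⟶ S)
    (hred : ∀ (Ω : Type u) [Field Ω] [IsAlgClosed Ω] (σ : Spec (CommRingCat.of Ω) ⟶ S), IsReduced (pullback f σ))
    (W : S.Opens) (Ω : Type u) [Field Ω] [IsAlgClosed Ω] (σ : Spec (CommRingCat.of Ω) ⟶ (W : Scheme.{u})) :
    IsReduced (pullback (f ∣_ W) σ) :=
  haveI := hred Ω (σ ≫ W.ι)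
  isReduced_of_isOpenImmersion
    ((IsPullback.of_hasPullback _ σ).paste_horiz (isPullback_morphismRestrict f W).flip).isoPullback.hom

/-- Opens over which global functions are finite flat and commute with base change cover the base. -/
theorem exists_affine_cover_gammaBC {X S : Scheme.{u}} (f : X ⟶ S) [IsProper f] [Flat f]
    [LocallyOfFinitePresentation f]
    (hred : ∀ (Ω : Type u) [Field Ω] [IsAlgClosed Ω] (σ : Spec (CommRingCat.of Ω) ⟶ S), IsReduced (pullback f σ))
    (s : S) : ∃ U : S.Opens, s ∈ U ∧ IsAffineOpen U ∧ GammaBC (f ∣_ U) := by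
  let Ω := AlgebraicClosure (S.residueField s)
  let t : Spec (CommRingCat.of Ω) ⟶ S :=
    Spec.map (CommRingCat.ofHom (algebraMap (S.residueField s) Ω)) ≫ S.fromSpecResidueField s
  haveI := hred Ω t
  obtain ⟨W, hW, hbc⟩ := exists_gammaBC_of_isReduced f t
  have ht : t (IsLocalRing.closedPoint Ω) = s := S.fromSpecResidueField_apply s _
  obtain ⟨U, hU, hsU, hUW⟩ := exists_isAffineOpen_mem_and_subset (x := s) (U := W) (ht ▸ hW)
  refine ⟨U, hsU, hU, ?_⟩
  have h1 : IsPullback (f ⁻¹ᵁ U).ι (f ∣_ U) f (S.homOfLE hUW ≫ W.ι) := by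
    rw [Scheme.homOfLE_ι]
    exact (isPullback_morphismRestrict f U).flip
  exact hbc.baseChange (IsPullback.of_right' h1 (isPullback_morphismRestrict f W).flip)

theorem finite_etale_appTop {X S : Scheme.{u}} (f : X ⟶ S) [IsProper f]
    (hred : ∀ (Ω : Type u) [Field Ω] [IsAlgClosed Ω] (σ : Spec (CommRingCat.of Ω) ⟶ S), IsReduced (pullback f σ))
    (U : S.Opens) (hU : IsAffineOpen U) (hbc : GammaBC (f ∣_ U)) :
    (f ∣_ U).appTop.hom.Finite ∧ (f ∣_ U).appTop.hom.Etale := by
  haveI : IsAffine (U : Scheme.{u}) := hU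
  haveI : IsProper (f ∣_ U) := IsZariskiLocalAtTarget.restrict ‹IsProper f› U
  have hid : IsPullback (𝟙 _) (f ∣_ U) (f ∣_ U) (𝟙 _) := IsPullback.of_horiz_isIso ⟨by simp⟩
  exact ⟨(hbc _ _ _ hid).1.1, formallyUnramified_appTop _ hbc (hred_restrict f hred U) _ _ _ hid⟩

/-- The Stein factor of a proper flat morphism with geometrically reduced fibres is finite étale. -/
theorem isFinite_etale_fromNormalization {X S : Scheme.{u}} (f : X ⟶ S) [IsProper f] [Flat f]
    [LocallyOfFinitePresentation f]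
    (hred : ∀ (Ω : Type u) [Field Ω] [IsAlgClosed Ω] (σ : Spec (CommRingCat.of Ω) ⟶ S), IsReduced (pullback f σ)) :
    IsFinite f.fromNormalization ∧ Etale f.fromNormalization := by
  choose U hs hU hbc using exists_affine_cover_gammaBC f hred
  have hcov : iSup U = ⊤ := top_unique fun s _ => Opens.mem_iSup.2 ⟨s, hs s⟩
  haveI : ∀ s, IsAffine (U s : Scheme.{u}) := hU
  haveI : ∀ s, IsAffine ((f.fromNormalization ⁻¹ᵁ U s : f.normalization.Opens) : Scheme.{u}) :=
    fun s => (hU s).preimage f.fromNormalization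
  constructor
  · refine IsZariskiLocalAtTarget.of_iSup_eq_top (P := @IsFinite) U hcov fun s => ?_
    rw [HasAffineProperty.iff_of_isAffine (P := @IsFinite)]
    exact ⟨inferInstance, of_comp_appTop _ _ (Stein58.isIso_toNormalization_app f) RingHom.finite_respectsIso
      f.toNormalization_fromNormalization _ (finite_etale_appTop f hred _ (hU s) (hbc s)).1⟩
  · refine IsZariskiLocalAtTarget.of_iSup_eq_top (P := @Etale) U hcov fun s => ?_
    rw [HasRingHomProperty.iff_of_isAffine (P := @Etale)]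
    exact of_comp_appTop _ _ (Stein58.isIso_toNormalization_app f) RingHom.Etale.respectsIso
      f.toNormalization_fromNormalization _ (finite_etale_appTop f hred _ (hU s) (hbc s)).2

end Groth.Agent.CohFlat58
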