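import Groth.Agent.Hens22.ProperModel
import Groth.Agent.Rig93.FlatDesc

/-!
Noetherian models of flat proper schemes of finite presentation.
-/

set_option autoImplicit false
set_option backward.isDefEq.respectTransparency false
set_option backward.defeqAttrib.useBackward true

universe u

open CategoryTheory CategoryTheory.Limits AlgebraicGeometry Opposite TopologicalSpace

noncomputable section

namespace Groth.Agent.CohFlat58

/-- A flat proper scheme of finite presentation comes from a Noetherian ring. -/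
theorem exists_proper_flat_model (A : Type u) [CommRing A] {X : Scheme.{u}}
    (f : X ⟶ Spec (CommRingCat.of A)) [IsProper f] [Flat f] [LocallyOfFinitePresentation f] :
    ∃ (A₁ : Type u) (_ : CommRing A₁) (_ : IsNoetherianRing A₁) (_ : Algebra A₁ A) (X₁ : Scheme.{u})
      (f₁ : X₁ ⟶ Spec (CommRingCat.of A₁)) (_ : IsProper f₁) (_ : Flat f₁) (g : X ⟶ X₁),
      IsPullback g f f₁ (Spec.map (CommRingCat.ofHom (algebraMap A₁ A))) := by
  obtain ⟨J, _, _, D, π, hD, ⟨hc⟩⟩ := Approx60.exists_approximation (Spec (CommRingCat.of A))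
  haveI := hD.aff
  haveI := hD.compact
  haveI hln : ∀ i, IsLocallyNoetherian (D.obj i) := fun i =>
    @Approx60.isLocallyNoetherian_of_lft_toZ _ (hD.lft i)
  obtain ⟨i, Xi, ui, e, hl, hqc, hqs, he⟩ := Approx60.S0591 D _ hc X f
  haveI := hl
  haveI := hqc
  haveI := hqs
  have hlim : IsProper (pullback.snd ui ((Cone.mk _ π).π.app i)) :=
    (LimDesc62.prop_iff_of_isPullback (P := @IsProper) he).mp ‹IsProper f›
  obtain ⟨j, φ, hj⟩ := Approx60.descProp_isProper.desc D (Cone.mk _ π) hc i ui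
    (inferInstance : LocallyOfFiniteType ui) hlim
  obtain ⟨e₀, -, hX₀⟩ := ConsProp93.exists_isPullback_of_fac he (IsPullback.of_hasPullback ui (D.map φ))
    (π.app j) ((Cone.mk _ π).w φ)
  haveI : IsProper (pullback.snd ui (D.map φ)) := hj
  have hflim : Flat (pullback.snd (pullback.snd ui (D.map φ)) ((Cone.mk _ π).π.app j)) :=
    (LimDesc62.prop_iff_of_isPullback (P := @Flat) hX₀).mp ‹Flat f›
  obtain ⟨j', χ, hjf⟩ := Rig93.descProp_flat.desc D (Cone.mk _ π) hc j (pullback.snd ui (D.map φ))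
    (inferInstance : LocallyOfFinitePresentation (pullback.snd ui (D.map φ))) hflim
  obtain ⟨e₁, -, hX₁⟩ := ConsProp93.exists_isPullback_of_fac hX₀ (IsPullback.of_hasPullback (pullback.snd ui (D.map φ)) (D.map χ))
    (π.app j') ((Cone.mk _ π).w χ)
  obtain ⟨k, ψ, hk⟩ : ∃ (k : J) (_ : k ⟶ j'), IsAffine (D.obj k) := by
    haveI : IsAffine (Cone.mk _ π).pt := inferInstanceAs (IsAffine (Spec _))
    obtain ⟨k, hk⟩ := Scheme.exists_isAffine_of_isLimit D (Cone.mk _ π) hc
    obtain ⟨l, a, b, -⟩ := IsCofilteredOrEmpty.cone_objs k j'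
    exact ⟨l, b, isAffine_of_isAffineHom (D.map a)⟩
  let a₁ := pullback.snd (pullback.snd ui (D.map φ)) (D.map χ)
  haveI : IsProper a₁ := MorphismProperty.pullback_snd _ _ ‹IsProper (pullback.snd ui (D.map φ))›
  haveI : Flat a₁ := hjf
  haveI : Flat (pullback.snd a₁ (D.map ψ)) := MorphismProperty.pullback_snd _ _ hjf
  obtain ⟨e₂, -, hX₂⟩ := ConsProp93.exists_isPullback_of_fac hX₁ (IsPullback.of_hasPullback a₁ (D.map ψ))
    (π.app k) ((Cone.mk _ π).w ψ)
  haveI : IsNoetherianRing Γ(D.obj k, ⊤) :=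
    IsLocallyNoetherian.component_noetherian ⟨⊤, isAffineOpen_top _⟩
  let t : Spec (CommRingCat.of A) ⟶ Spec Γ(D.obj k, ⊤) := π.app k ≫ (D.obj k).isoSpec.hom
  letI : Algebra Γ(D.obj k, ⊤) A := (Spec.preimage t).hom.toAlgebra
  haveI : IsProper (pullback.snd a₁ (D.map ψ) ≫ (D.obj k).isoSpec.hom) := inferInstance
  refine ⟨Γ(D.obj k, ⊤), inferInstance, inferInstance, inferInstance, _,
    pullback.snd a₁ (D.map ψ) ≫ (D.obj k).isoSpec.hom, inferInstance, inferInstance, e₂, ?_⟩
  have ht : Spec.map (CommRingCat.ofHom (algebraMap Γ(D.obj k, ⊤) A)) = t := Spec.map_preimage t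
  rw [ht]
  exact hX₂.of_iso (Iso.refl _) (Iso.refl _) (Iso.refl _) (D.obj k).isoSpec
    (by simp) (by simp) (by simp [a₁]) (by simp [t])

end Groth.Agent.CohFlat58
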