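import Groth.Agent.CohFlat58.Global
import Groth.Agent.Mum71.FunctorLin

/-!
Cohomological flatness in degree zero over a local base.
-/

set_option autoImplicit false
set_option maxSynthPendingDepth 6
set_option synthInstance.maxHeartbeats 200000
set_option backward.isDefEq.respectTransparency.types false
set_option linter.style.haveILetI false

universe u

open CategoryTheory CategoryTheory.Limits AlgebraicGeometry TopologicalSpace Opposite TensorProduct
open CohIII (T tensorObj)

noncomputable section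

namespace Groth.Agent.CohFlat58

open Coh69 CechComp71 FF71

variable {A : Type u} [CommRing A] {X : Scheme.{u}} [X.Over (Spec (CommRingCat.of A))]

/-- Lifting of Čech kernels over a Noetherian local base with separable functions on the closed fibre. -/
theorem exists_kerEpi_of_isLocalRing [IsNoetherianRing A] [IsLocalRing A]
    [IsProper (X ↘ Spec (CommRingCat.of A))] [Flat (X ↘ Spec (CommRingCat.of A))] (y : PrimeSpectrum A)
    (hym : y.asIdeal = IsLocalRing.maximalIdeal A)
    (hy : SepRoots (Z := (X ↘ Spec (CommRingCat.of A)).fiber y) ((X ↘ Spec (CommRingCat.of A)).fiberToSpecResidueField y)) :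
    ∃ (ι : Type u) (_ : Finite ι) (U : ι → X.Opens), (⨆ i, U i = ⊤) ∧
      (∀ (n : ℕ) (i : Fin (n + 1) → ι), IsAffineOpen (cOpen U i)) ∧ Module.Flat A (C₀ U) ∧
      KerEpi (diff (restr (A := A) U 0) (restr (A := A) U 1)) A := by
  obtain ⟨ι, hι, U, hU, hU', hC₀, hC₁, F, G, _, _, _, _, _, _, _, dF, s, hmod⟩ := exists_kerModel (A := A) (X := X)
  obtain ⟨pκ, hsq, hκ⟩ := exists_fibre_sq (X ↘ Spec (CommRingCat.of A)) y hy
  let p := y.asIdeal
  have hfree : Module.Free (Localization.AtPrime p) (Localization.AtPrime p ⊗[A] (G ⧸ LinearMap.range dF)) :=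
    hmod.free_at (Localization.AtPrime p) fun n x hx =>
      exists_lift_of_sepRoots (B := p.ResidueField) hU hU'
        (Ideal.Quotient.factorₐ A (Ideal.pow_le_self (I := IsLocalRing.maximalIdeal (Localization.AtPrime p)) (Nat.succ_ne_zero n)))
        (Ideal.Quotient.factor_surjective (Ideal.pow_le_self (Nat.succ_ne_zero n)))
        (pow_mem_ker _ n) pκ ((X ↘ Spec (CommRingCat.of A)).fiberι y) hsq hκ x hx
  haveI := Module.finitePresentation_of_finite A (G ⧸ LinearMap.range dF)
  obtain ⟨g, hg, hflat⟩ := exists_flat_tensor p (Localization.AtPrime p) hfree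
  haveI := hflat A (by
    by_contra h
    exact hg (show g ∈ y.asIdeal by rw [hym]; exact (IsLocalRing.mem_maximalIdeal g).2 h))
  exact ⟨ι, hι, U, hU, hU', hC₀, hmod.kerEpi (kerEpi_of_flat_coker dF A)⟩

variable {ι : Type u} {U : ι → X.Opens}

/-- Čech `0`-cochains of the structure sheaf. -/
def chEquiv₀ (U : ι → X.Opens) : (Mum71.chCx A U (Coh.structureModule X)).X 0 ≃ₗ[A] C₀ U :=
  { toFun := fun c => c, invFun := fun c => c, map_add' := fun _ _ => rfl, map_smul' := fun _ _ => rfl
    left_inv := fun _ => rfl, right_inv := fun _ => rfl }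

/-- Čech `1`-cochains of the structure sheaf. -/
def chEquiv₁ (U : ι → X.Opens) : (Mum71.chCx A U (Coh.structureModule X)).X 1 ≃ₗ[A] C₁ U :=
  { toFun := fun c => c, invFun := fun c => c, map_add' := fun _ _ => rfl, map_smul' := fun _ _ => rfl
    left_inv := fun _ => rfl, right_inv := fun _ => rfl }

theorem diff_chEquiv (c : (Mum71.chCx A U (Coh.structureModule X)).X 0) :
    diff (restr (A := A) U 0) (restr (A := A) U 1) (chEquiv₀ U c) =
      chEquiv₁ U (((Mum71.chCx A U (Coh.structureModule X)).d 0 1).hom c) := by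
  refine funext fun k => ?_
  show restr (A := A) U 0 (chEquiv₀ (A := A) U c) k - restr (A := A) U 1 (chEquiv₀ (A := A) U c) k =
    chEquiv₁ (A := A) U (((Mum71.chCx A U (Coh.structureModule X)).d ((0 : ℕ) : ℤ) (((0 : ℕ) : ℤ) + 1)).hom c) k
  rw [Mum71.chCx_d_ofNat U (Coh.structureModule X) 0]
  show _ = Mum71.cdL A U (Coh.structureModule X) 0 c k
  rw [Mum71.cdL_apply, Fin.sum_univ_two, restr_apply, restr_apply]
  simp only [Fin.val_zero, pow_zero, one_smul, Fin.val_one, pow_one, neg_smul, ← sub_eq_add_neg]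
  rfl

/-- Moving the coefficients to the left. -/
def left₀ (U : ι → X.Opens) (M : Type u) [AddCommGroup M] [Module A M] :
    (Mum71.chCx A U (Coh.structureModule X)).X 0 ⊗[A] M ≃ₗ[A] M ⊗[A] C₀ U :=
  (TensorProduct.comm A _ M).trans ((chEquiv₀ U).lTensor M)

theorem left₀_d {M : Type u} [AddCommGroup M] [Module A M] (z : (Mum71.chCx A U (Coh.structureModule X)).X 0 ⊗[A] M) :
    (diff (restr (A := A) U 0) (restr (A := A) U 1)).lTensor M (left₀ U M z) =
      (chEquiv₁ U).lTensor M (TensorProduct.comm A _ M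
        (((Mum71.chCx A U (Coh.structureModule X)).d 0 1).hom.rTensor M z)) := by
  induction z with
  | zero => simp only [map_zero]
  | add a b ha hb => simp only [map_add, ha, hb]
  | tmul c m => simp [left₀, diff_chEquiv]

theorem left₀_natural {M M' : Type u} [AddCommGroup M] [Module A M] [AddCommGroup M'] [Module A M'] (g : M →ₗ[A] M')
    (z : (Mum71.chCx A U (Coh.structureModule X)).X 0 ⊗[A] M) :
    left₀ U M' (g.lTensor _ z) = g.rTensor (C₀ U) (left₀ U M z) := by
  induction z with
  | zero => simp only [map_zero]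
  | add a b ha hb => simp only [map_add, ha, hb]
  | tmul c m => simp [left₀]

/-- The functor `H⁰(X, O ⊗ -)` preserves monomorphisms and, with lifting of kernels, epimorphisms. -/
theorem preserves_of_kerEpi [Finite ι] [(Coh.structureModule X).IsQuasicoherent]
    (hU : ⨆ i, U i = ⊤) (hU' : ∀ (n : ℕ) (i : Fin (n + 1) → ι), IsAffineOpen (cOpen U i))
    [Module.Flat A (C₀ U)] (hd : KerEpi (diff (restr (A := A) U 0) (restr (A := A) U 1)) A) :
    (CohIII.tensorAFunctor A (Coh.structureModule X) ⋙ CohIII.HAb X 0).PreservesMonomorphisms ∧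
      (CohIII.tensorAFunctor A (Coh.structureModule X) ⋙ CohIII.HAb X 0).PreservesEpimorphisms := by
  let K := Mum71.chCx A U (Coh.structureModule X)
  obtain ⟨e, he⟩ := Mum71.exists_linearEquiv_natural (L := K) (φ := 𝟙 K) (Coh.structureModule X) hU hU'
    (fun M => by rw [CategoryTheory.Functor.map_id]; infer_instance) 0
  have hp : (ComplexShape.up ℤ).prev (0 : ℤ) = -1 := ComplexShape.prev_eq' _ (show (-1 : ℤ) + 1 = 0 by omega)
  have hn : (ComplexShape.up ℤ).next (0 : ℤ) = 1 := ComplexShape.next_eq' _ (show (0 : ℤ) + 1 = 1 by omega)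
  have hz : ∀ M : ModuleCat.{u} A, Function.Injective (FCx40.hcls (tensorObj K M) 0 1 hn) := fun M => by
    rw [injective_iff_map_eq_zero]
    intro z h0
    obtain ⟨w, hw⟩ := (FCx40.hcls_eq_zero_iff hp hn _).1 h0
    haveI : Subsingleton (K.X (-1 : ℤ) ⊗[A] M) := by
      haveI := ModuleCat.subsingleton_of_isZero (Mum71.isZero_chX_neg (A := A) U (Coh.structureModule X) (-1) (by omega))
      infer_instance
    refine Subtype.ext (hw.symm.trans ?_)
    rw [show w = 0 from @Subsingleton.elim _ ‹_› _ _, map_zero]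
    rfl
  have hmap : ∀ {M M' : ModuleCat.{u} A} (g : M ⟶ M') (z : LinearMap.ker ((K.d 0 1).hom.rTensor M)),
      ∃ z' : LinearMap.ker ((K.d 0 1).hom.rTensor M'), z'.1 = g.hom.lTensor (K.X 0) z.1 ∧
        ((CohIII.tensorAFunctor A (Coh.structureModule X) ⋙ CohIII.HAb X 0).map g).hom
          (e M (FCx40.hcls (tensorObj K M) 0 1 hn z)) = e M' (FCx40.hcls (tensorObj K M') 0 1 hn z') :=
    fun {M M'} g z => ⟨_, rfl, (he M M' g _).symm.trans (congrArg (e M') (FCx40.hcls_map (CohIII.tensorMap K g) hn z))⟩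
  refine ⟨⟨fun {M M'} g hg => ?_⟩, ⟨fun {M M'} g hg => ?_⟩⟩
  · rw [AddCommGrpCat.mono_iff_injective]
    intro a b hab
    obtain ⟨a, rfl⟩ := (e M).surjective a
    obtain ⟨b, rfl⟩ := (e M).surjective b
    obtain ⟨a, rfl⟩ := FCx40.hcls_surjective (K := tensorObj K M) hn a
    obtain ⟨b, rfl⟩ := FCx40.hcls_surjective (K := tensorObj K M) hn b
    obtain ⟨a', ha, ha'⟩ := hmap g a
    obtain ⟨b', hb, hb'⟩ := hmap g b
    have h : g.hom.lTensor (K.X 0) a.1 = g.hom.lTensor (K.X 0) b.1 := by
      rw [← ha, ← hb, hz M' ((e M').injective (ha'.symm.trans (hab.trans hb')))]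
    haveI : Module.Flat A (K.X 0) := Module.Flat.of_linearEquiv (chEquiv₀ U)
    rw [show a = b from Subtype.ext (Module.Flat.lTensor_preserves_injective_linearMap g.hom
      ((ModuleCat.mono_iff_injective g).1 hg) h)]
  · rw [AddCommGrpCat.epi_iff_surjective]
    intro x
    obtain ⟨x, rfl⟩ := (e M').surjective x
    obtain ⟨z, rfl⟩ := FCx40.hcls_surjective (K := tensorObj K M') hn x
    have hx : (diff (restr (A := A) U 0) (restr (A := A) U 1)).lTensor M' (left₀ U M' z.1) = 0 := by
      rw [left₀_d, show (K.d 0 1).hom.rTensor M' z.1 = 0 from z.2, map_zero, map_zero]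
    obtain ⟨w, hw, hwz⟩ := hd M M' g.hom ((ModuleCat.epi_iff_surjective g).1 hg) _ hx
    obtain ⟨w, rfl⟩ := (left₀ U M).surjective w
    rw [left₀_d] at hw
    have hwk : w ∈ LinearMap.ker ((K.d 0 1).hom.rTensor M) :=
      (TensorProduct.comm A _ M).injective (((chEquiv₁ U).lTensor M).injective (hw.trans (by simp)))
    obtain ⟨z', hz', hz''⟩ := hmap g ⟨w, hwk⟩
    refine ⟨e M (FCx40.hcls (tensorObj K M) 0 1 hn ⟨w, hwk⟩), hz''.trans ?_⟩
    refine congrArg _ (congrArg _ (Subtype.ext (hz'.trans ((left₀ U M').injective ?_))))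
    rw [left₀_natural]
    exact hwz

end Groth.Agent.CohFlat58
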