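import Groth.Agent.CohFlat58.Rank
import Groth.Agent.AbSch7.NoethH0
import Mathlib.RingTheory.Flat.FaithfullyFlat.Descent

/-!
Proper flat finitely presented morphisms whose fibres have only constant functions, over any base.
-/

set_option autoImplicit false
set_option maxSynthPendingDepth 6
set_option linter.style.haveILetI false
set_option linter.style.longLine false

universe u

open CategoryTheory CategoryTheory.Limits AlgebraicGeometry TopologicalSpace

noncomputable section

namespace Groth.Agent.CohFlat58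

/-- Bijectivity descends along a faithfully flat pushout of rings. -/
theorem bijective_of_isPushout {R S R' S' : CommRingCat.{u}} {a : R ⟶ S} {i : R ⟶ R'} {b : S ⟶ S'} {c : R' ⟶ S'}
    (h : IsPushout a i b c) (hi : i.hom.FaithfullyFlat) (hc : Function.Bijective c) : Function.Bijective a := by
  algebraize [a.hom, i.hom, b.hom, c.hom, b.hom.comp a.hom]
  haveI : IsScalarTower R R' S' := .of_algebraMap_eq' (congrArg CommRingCat.Hom.hom h.w)
  haveI : Algebra.IsPushout R S R' S' := CommRingCat.isPushout_iff_isPushout.1 h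
  exact RingHom.FaithfullyFlat.codescendsAlong_bijective (R := R) (S := S) (R' := R') (S' := S') hi hc

/-- Having only constant functions descends along a field extension. -/
theorem bijective_appTop_of_fieldExt {k k' : CommRingCat.{u}} (hk : IsField k) (hk' : IsField k') {F F' : Scheme.{u}}
    (q : F ⟶ Spec k) [QuasiCompact q] [QuasiSeparated q] (φ : k ⟶ k') {a : F' ⟶ F} {q' : F' ⟶ Spec k'}
    (h : IsPullback a q' q (Spec.map φ)) (hb : Function.Bijective q'.appTop) : Function.Bijective q.appTop := by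
  letI := hk.toField
  letI := hk'.toField
  letI := φ.hom.toAlgebra
  have hff : φ.hom.FaithfullyFlat := inferInstanceAs (Module.FaithfullyFlat k k')
  haveI : Flat (Spec.map φ) := (HasRingHomProperty.Spec_iff (P := @Flat)).2 hff.flat
  haveI : CompactSpace F := QuasiCompact.compactSpace_of_compactSpace q
  haveI : QuasiSeparatedSpace F := quasiSeparatedSpace_of_quasiSeparated q
  have hiso := isIso_pushoutSection_of_isQuasiSeparated_of_flat_right (US := ⊤) (UT := ⊤) (UX := ⊤)
    (UY := ⊤) h.flip.flip (by simp) (by simp) (by simp) (isAffineOpen_top _) (isAffineOpen_top _)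
    (by simpa using isCompact_univ) (by simpa using isQuasiSeparated_univ)
  have hp' := (isIso_pushoutSection_iff ..).1 hiso
  have hp : IsPushout q.appTop (Spec.map φ).appTop a.appTop q'.appTop := by
    rw [← AbSch7.appLE_top q (by simp), ← AbSch7.appLE_top (Spec.map φ) (by simp),
      ← AbSch7.appLE_top a (by simp), ← AbSch7.appLE_top q' (by simp)]
    exact hp'
  refine bijective_of_isPushout hp ?_ hb
  have hsq : (Spec.map φ).appTop = (Scheme.ΓSpecIso k).hom ≫ φ ≫ (Scheme.ΓSpecIso k').inv := by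
    rw [← Scheme.ΓSpecIso_naturality_assoc, Iso.hom_inv_id, Category.comp_id]
  rw [hsq, CommRingCat.hom_comp, CommRingCat.hom_comp]
  exact RingHom.FaithfullyFlat.respectsIso.2 _ (Scheme.ΓSpecIso k).commRingCatIsoToRingEquiv
    (RingHom.FaithfullyFlat.respectsIso.1 _ (Scheme.ΓSpecIso k').symm.commRingCatIsoToRingEquiv hff)

theorem isIso_app_affine {X S : Scheme.{u}} {f : X ⟶ S} (hf : GammaBC f) [IsAffine S]
    (h : ∀ p, rankFn f p = 1) {T XT : Scheme.{u}} [IsAffine T] (π : T ⟶ S) {b : XT ⟶ X} {q : XT ⟶ T}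
    (hsq : IsPullback b q f π) : IsIso (q.app ⊤) :=
  (ConcreteCategory.isIso_iff_bijective _).2
    (bijective_appTop_of_rankFn (hf.baseChange hsq) fun p => (rankFn_eq hf π hsq p).trans (h _))

/-- Locally on the base the family comes from one over a Noetherian base with the same property. -/
theorem exists_gammaBC_rank_one {X S : Scheme.{u}} (f : X ⟶ S) [IsProper f] [Flat f]
    [LocallyOfFinitePresentation f] (s : S) (hs : Function.Bijective (f.fiberToSpecResidueField s).appTop) :
    ∃ U : S.Opens, s ∈ U ∧ IsAffineOpen U ∧ GammaBC (f ∣_ U) ∧ ∀ p, rankFn (f ∣_ U) p = 1 := by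
  obtain ⟨V, hV, hsV, -⟩ := exists_isAffineOpen_mem_and_subset (x := s) (U := (⊤ : S.Opens)) trivial
  haveI : IsAffine (V : Scheme.{u}) := hV
  let eV : (V : Scheme.{u}) ≅ Spec Γ((V : Scheme.{u}), ⊤) := (V : Scheme.{u}).isoSpec
  let f' : ((f ⁻¹ᵁ V : X.Opens) : Scheme.{u}) ⟶ Spec (CommRingCat.of Γ((V : Scheme.{u}), ⊤)) := (f ∣_ V) ≫ eV.hom
  haveI : IsProper (f ∣_ V) := IsZariskiLocalAtTarget.restrict ‹IsProper f› V
  haveI : IsProper f' := inferInstanceAs (IsProper ((f ∣_ V) ≫ eV.hom))
  haveI : Flat f' := inferInstanceAs (Flat ((f ∣_ V) ≫ eV.hom))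
  haveI : LocallyOfFinitePresentation f' := inferInstanceAs (LocallyOfFinitePresentation ((f ∣_ V) ≫ eV.hom))
  obtain ⟨A₁, _, _, _, X₁, f₁, _, _, g, hg⟩ := exists_proper_flat_model Γ((V : Scheme.{u}), ⊤) f'
  let π := eV.hom ≫ Spec.map (CommRingCat.ofHom (algebraMap A₁ Γ((V : Scheme.{u}), ⊤)))
  have hsq : IsPullback g (f ∣_ V) f₁ π := by
    have := (show IsPullback (𝟙 _) (f ∣_ V) f' eV.hom from IsPullback.of_horiz_isIso ⟨Category.id_comp _⟩).paste_horiz hg
    rwa [Category.id_comp] at this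
  obtain ⟨t, ht⟩ : ∃ t : Spec (S.residueField s) ⟶ (V : Scheme.{u}), t ≫ V.ι = S.fromSpecResidueField s := by
    refine ⟨IsOpenImmersion.lift V.ι _ ?_, IsOpenImmersion.lift_fac _ _ _⟩
    rw [Scheme.range_fromSpecResidueField, Scheme.Opens.range_ι]
    exact Set.singleton_subset_iff.2 hsV
  let pt : Spec (S.residueField s) := IsLocalRing.closedPoint (S.residueField s)
  have htpt : V.ι (t pt) = s := by
    rw [← Scheme.Hom.comp_apply, ht, Scheme.fromSpecResidueField_apply]
  obtain ⟨x₁, φ, hφ⟩ : ∃ (x : Spec (CommRingCat.of A₁)) (φ : (Spec (CommRingCat.of A₁)).residueField x ⟶ S.residueField s),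
      Spec.map φ ≫ (Spec (CommRingCat.of A₁)).fromSpecResidueField x = t ≫ π := by
    obtain ⟨p, hp⟩ := (Scheme.SpecToEquivOfField (S.residueField s) (Spec (CommRingCat.of A₁))).symm.surjective (t ≫ π)
    exact ⟨p.1, p.2, hp⟩
  have hx₁ : (t ≫ π) pt = x₁ := by
    rw [← hφ, Scheme.Hom.comp_apply, Scheme.fromSpecResidueField_apply]
  have h2 : IsPullback (f.fiberι s) (f.fiberToSpecResidueField s) f (t ≫ V.ι) := by
    rw [ht]; exact IsPullback.of_hasPullback f _
  have h3 := (IsPullback.of_right' h2 (isPullback_morphismRestrict f V).flip).paste_horiz hsq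
  rw [← hφ] at h3
  have h4 : Function.Bijective (f₁.fiberToSpecResidueField x₁).appTop :=
    haveI : QuasiCompact (f₁.fiberToSpecResidueField x₁) := MorphismProperty.pullback_snd _ _ inferInstance
    haveI : QuasiSeparated (f₁.fiberToSpecResidueField x₁) := MorphismProperty.pullback_snd _ _ inferInstance
    bijective_appTop_of_fieldExt (Field.toIsField _) (Field.toIsField _) _ φ
      (IsPullback.of_right' h3 (IsPullback.of_hasPullback f₁ _)) hs
  obtain ⟨W₀, hW₀, hbc₀⟩ := exists_gammaBC_nhd f₁ _ (sepRoots_of_surjective _ h4.2)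
  obtain ⟨W₁, hW₁, hiso⟩ := exists_isIso_app_nhd f₁ _ h4
  obtain ⟨W, hW, hmW, hle⟩ := exists_isAffineOpen_mem_and_subset (U := W₀ ⊓ W₁) (show (t ≫ π) pt ∈ W₀ ⊓ W₁ by rw [hx₁]; exact ⟨hW₀, hW₁⟩)
  haveI : IsAffine (W : Scheme.{u}) := hW
  have hbcW : GammaBC (f₁ ∣_ W) := by
    have h1 : IsPullback (f₁ ⁻¹ᵁ W).ι (f₁ ∣_ W) f₁
        ((Spec (CommRingCat.of A₁)).homOfLE (fun x hx => (hle hx).1) ≫ W₀.ι) := by
      rw [Scheme.homOfLE_ι]
      exact (isPullback_morphismRestrict f₁ W).flip
    exact hbc₀.baseChange (IsPullback.of_right' h1 (isPullback_morphismRestrict f₁ W₀).flip)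
  have hrk : ∀ p, rankFn (f₁ ∣_ W) p = 1 := rankFn_of_bijective
    ((bijective_appTop_congr f₁).2 (hiso _ ((Scheme.Opens.ι_image_top _).le.trans fun x hx => (hle hx).2)))
  obtain ⟨U, hU, hsU, hUle⟩ := exists_isAffineOpen_mem_and_subset (x := s) (U := V.ι ''ᵁ (π ⁻¹ᵁ W))
    ⟨t pt, hmW, htpt⟩
  haveI : IsAffine (U : Scheme.{u}) := hU
  have hUV : U ≤ V := fun x hx => by obtain ⟨v, -, rfl⟩ := hUle hx; exact v.2
  let ρ : (U : Scheme.{u}) ⟶ (W : Scheme.{u}) := IsOpenImmersion.lift W.ι (S.homOfLE hUV ≫ π) (by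
    rw [Scheme.Opens.range_ι]
    rintro _ ⟨x, rfl⟩
    obtain ⟨v, hv, hvx⟩ := hUle x.2
    show π ((S.homOfLE hUV) x) ∈ W
    have hx' : (S.homOfLE hUV) x = v := V.ι.isOpenEmbedding.injective (by
      rw [← Scheme.Hom.comp_apply, Scheme.homOfLE_ι]
      exact hvx.symm)
    rw [hx']
    exact hv)
  have hρ : ρ ≫ W.ι = S.homOfLE hUV ≫ π := IsOpenImmersion.lift_fac _ _ _
  have h5 : IsPullback (f ⁻¹ᵁ U).ι (f ∣_ U) f (S.homOfLE hUV ≫ V.ι) := by
    rw [Scheme.homOfLE_ι]; exact (isPullback_morphismRestrict f U).flip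
  have h6 := (IsPullback.of_right' h5 (isPullback_morphismRestrict f V).flip).paste_horiz hsq
  rw [← hρ] at h6
  have h7 := IsPullback.of_right' h6 (isPullback_morphismRestrict f₁ W).flip
  exact ⟨U, hsU, hU, hbcW.baseChange h7, fun p => (rankFn_eq hbcW ρ h7 p).trans (hrk _)⟩

/-- Constant functions on the fibres give `O = f_*O` after every base change. -/
theorem isIso_app_of_fibres {X S : Scheme.{u}} (f : X ⟶ S) [IsProper f] [Flat f]
    [LocallyOfFinitePresentation f] (h : ∀ s, Function.Bijective (f.fiberToSpecResidueField s).appTop)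
    {T XT : Scheme.{u}} (g : T ⟶ S) {a : XT ⟶ X} {q : XT ⟶ T} (hsq : IsPullback a q f g) (V : T.Opens) :
    IsIso (q.app V) := by
  choose W hsW hW hbc hrk using fun s => exists_gammaBC_rank_one f s (h s)
  let B : Set T.Opens := {V | IsAffineOpen V ∧ ∃ s, V ≤ g ⁻¹ᵁ W s}
  have hB : Opens.IsBasis B := Opens.isBasis_iff_nbhd.2 fun {O t} ht => by
    obtain ⟨V, hV, htV, hle⟩ := exists_isAffineOpen_mem_and_subset (x := t) (U := O ⊓ g ⁻¹ᵁ W (g t)) ⟨ht, hsW (g t)⟩
    exact ⟨V, ⟨hV, g t, fun x hx => (hle hx).2⟩, htV, fun x hx => (hle hx).1⟩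
  refine Var76.FibBC.isIso_app_of_isBasis _ hB (fun V hV => ?_) V
  obtain ⟨hV, s, hle⟩ := hV
  haveI : IsAffine (V : Scheme.{u}) := hV
  haveI : IsAffine (W s : Scheme.{u}) := hW s
  have h1 : IsPullback ((q ⁻¹ᵁ V).ι ≫ a) (q ∣_ V) f ((T.homOfLE hle ≫ (g ∣_ W s)) ≫ (W s).ι) := by
    rw [Category.assoc, morphismRestrict_ι, Scheme.homOfLE_ι_assoc]
    exact (isPullback_morphismRestrict _ V).flip.paste_horiz hsq
  have h2 := isIso_app_affine (hbc s) (hrk s) _ (IsPullback.of_right' h1 (isPullback_morphismRestrict f (W s)).flip)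
  have h3 := (bijective_appTop_congr q).1 ((ConcreteCategory.isIso_iff_bijective _).1 h2)
  rwa [Scheme.Opens.ι_image_top] at h3

/-- The same from constant functions on the geometric fibres. -/
theorem bijective_fibre_of_geomFibre {X S : Scheme.{u}} (f : X ⟶ S) [QuasiCompact f] [QuasiSeparated f] (s : S)
    (h : ∀ (K : Type u) [Field K] [IsAlgClosed K] (g : Spec (CommRingCat.of K) ⟶ S),
      Function.Bijective (pullback.snd f g).appTop) :
    Function.Bijective (f.fiberToSpecResidueField s).appTop := by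
  let Ω := AlgebraicClosure (S.residueField s)
  let φ : S.residueField s ⟶ CommRingCat.of Ω := CommRingCat.ofHom (algebraMap (S.residueField s) Ω)
  let g : Spec (CommRingCat.of Ω) ⟶ S := Spec.map φ ≫ S.fromSpecResidueField s
  haveI : QuasiCompact (f.fiberToSpecResidueField s) := MorphismProperty.pullback_snd _ _ inferInstance
  haveI : QuasiSeparated (f.fiberToSpecResidueField s) := MorphismProperty.pullback_snd _ _ inferInstance
  exact bijective_appTop_of_fieldExt (Field.toIsField _) (Field.toIsField _) _ φ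
    (IsPullback.of_right' (IsPullback.of_hasPullback f g) (IsPullback.of_hasPullback f _)) (h Ω g)

end Groth.Agent.CohFlat58
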