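import Groth.Agent.CohFlat58.Separable
import Groth.Agent.CohFlat58.FlatModel

/-!
Cohomological flatness in degree zero over general bases.
-/

set_option autoImplicit false
set_option maxSynthPendingDepth 6
set_option linter.style.haveILetI false

universe u

open CategoryTheory CategoryTheory.Limits AlgebraicGeometry TopologicalSpace Opposite Polynomial

noncomputable section

namespace Groth.Agent.CohFlat58

theorem SepRoots.of_isPullback {Z T Z' T' : Scheme.{u}} {p : Z ⟶ T} (hp : SepRoots p) {p' : Z' ⟶ T'} {a : Z' ⟶ Z}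
    {e : T' ⟶ T} [IsIso e] (h : IsPullback a p' p e) : SepRoots p' := by
  haveI : IsIso a := h.isIso_fst_of_isIso
  intro z
  obtain ⟨P, h0, h1⟩ := hp ((CategoryTheory.inv a).appTop z)
  have key : a.appTop.hom.comp p.appTop.hom = p'.appTop.hom.comp e.appTop.hom := by
    rw [← CommRingCat.hom_comp, ← CommRingCat.hom_comp, ← Scheme.Hom.comp_appTop, ← Scheme.Hom.comp_appTop, h.w]
  have hz : a.appTop ((CategoryTheory.inv a).appTop z) = z := by
    rw [← CommRingCat.comp_apply, ← Scheme.Hom.comp_appTop, IsIso.hom_inv_id, Scheme.Hom.id_appTop]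
    rfl
  have hmap : ∀ Q : Polynomial Γ(T, ⊤), (Q.map e.appTop.hom).eval₂ p'.appTop.hom z =
      a.appTop.hom (Q.eval₂ p.appTop.hom ((CategoryTheory.inv a).appTop z)) := fun Q => by
    rw [eval₂_map, hom_eval₂, ← key, show a.appTop.hom ((CategoryTheory.inv a).appTop z) = z from hz]
  refine ⟨P.map e.appTop.hom, ?_, ?_⟩
  · rw [hmap, h0, map_zero]
  · rw [derivative_map, hmap]; exact h1.map _

theorem isPullback_morphismRestrict_fiber {X Y X' Y' : Scheme.{u}} {f : X ⟶ Y} {g : Y' ⟶ Y} {a : X' ⟶ X}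
    {f' : X' ⟶ Y'} (h : IsPullback a f' f g) (y : Y') (hg : IsIso (g.residueFieldMap y)) :
    ∃ c : f'.fiber y ⟶ f.fiber (g y), IsPullback c (f'.fiberToSpecResidueField y) (f.fiberToSpecResidueField (g y))
      (Spec.map (g.residueFieldMap y)) := by
  have h1 : IsPullback (f'.fiberι y ≫ a) (f'.fiberToSpecResidueField y) f
      (Spec.map (g.residueFieldMap y) ≫ Y.fromSpecResidueField (g y)) := by
    rw [g.SpecMap_residueFieldMap_fromSpecResidueField]
    exact (IsPullback.of_hasPullback f' (Y'.fromSpecResidueField y)).paste_horiz h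
  exact ⟨_, IsPullback.of_right' h1 (IsPullback.of_hasPullback f (Y.fromSpecResidueField (g y)))⟩

/-- A reduced geometric fibre gives separable functions on the fibre. -/
theorem sepRoots_fibre_of_isReduced {X S : Scheme.{u}} (f : X ⟶ S) [IsProper f] {Ω : Type u} [Field Ω] [IsAlgClosed Ω]
    (t : Spec (CommRingCat.of Ω) ⟶ S) [IsReduced (pullback f t)] :
    SepRoots (f.fiberToSpecResidueField (t (IsLocalRing.closedPoint Ω))) := by
  set s := t (IsLocalRing.closedPoint Ω)
  let φ : S.residueField s ⟶ CommRingCat.of Ω := S.descResidueField (Scheme.stalkClosedPointTo t)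
  have ht : Spec.map φ ≫ S.fromSpecResidueField s = t :=
    Scheme.descResidueField_stalkClosedPointTo_fromSpecResidueField Ω S t
  haveI : IsProper (f.fiberToSpecResidueField s) := MorphismProperty.pullback_snd _ _ inferInstance
  have h1 : IsPullback (pullback.fst f t) (pullback.snd f t) f (Spec.map φ ≫ S.fromSpecResidueField s) := by
    rw [ht]; exact IsPullback.of_hasPullback f t
  have h2 := IsPullback.of_right' h1 (IsPullback.of_hasPullback f (S.fromSpecResidueField s))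
  exact sepRoots_of_isReduced (k := S.residueField s) (f.fiberToSpecResidueField s) (Spec.map φ) _ _ h2

theorem GammaBC.preimage {X S X' S' : Scheme.{u}} {f : X ⟶ S} {π : S' ⟶ S} {a : X' ⟶ X} {f' : X' ⟶ S'}
    (h : IsPullback a f' f π) {W : S.Opens} (hW : GammaBC (f ∣_ W)) : GammaBC (f' ∣_ (π ⁻¹ᵁ W)) := by
  have h1 : IsPullback ((f' ⁻¹ᵁ (π ⁻¹ᵁ W)).ι ≫ a) (f' ∣_ (π ⁻¹ᵁ W)) f ((π ∣_ W) ≫ W.ι) := by
    rw [morphismRestrict_ι]
    exact (isPullback_morphismRestrict f' _).flip.paste_horiz h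
  exact hW.baseChange (IsPullback.of_right' h1 (isPullback_morphismRestrict f W).flip)

theorem GammaBC.image {X Y X' Y' : Scheme.{u}} {f : X ⟶ Y} {j : Y' ⟶ Y} [IsOpenImmersion j] {a : X' ⟶ X}
    {f' : X' ⟶ Y'} (h : IsPullback a f' f j) {W : Y'.Opens} (hW : GammaBC (f' ∣_ W)) : GammaBC (f ∣_ (j ''ᵁ W)) := by
  have hle : Set.range (j ''ᵁ W).ι ⊆ Set.range (W.ι ≫ j) := by
    rw [Scheme.Opens.range_ι, Scheme.Hom.comp_base, TopCat.coe_comp, Set.range_comp, Scheme.Opens.range_ι]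
    exact subset_rfl
  let e := IsOpenImmersion.lift (W.ι ≫ j) (j ''ᵁ W).ι hle
  have h1 : IsPullback (f ⁻¹ᵁ (j ''ᵁ W)).ι (f ∣_ (j ''ᵁ W)) f (e ≫ W.ι ≫ j) := by
    rw [IsOpenImmersion.lift_fac]
    exact (isPullback_morphismRestrict f _).flip
  exact hW.baseChange (IsPullback.of_right' h1 ((isPullback_morphismRestrict f' W).flip.paste_horiz h))

/-- Near a point of a locally Noetherian base whose fibre has separable functions. -/
theorem exists_gammaBC_nhd {X Y : Scheme.{u}} (f : X ⟶ Y) [IsProper f] [Flat f] [IsLocallyNoetherian Y] (y : Y)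
    (hy : SepRoots (f.fiberToSpecResidueField y)) : ∃ U : Y.Opens, y ∈ U ∧ GammaBC (f ∣_ U) := by
  obtain ⟨_, ⟨V, hV, rfl⟩, hyV, -⟩ := Y.isBasis_affineOpens.exists_subset_of_mem_open (Set.mem_univ y) isOpen_univ
  let A := Γ(Y, V)
  haveI : IsNoetherianRing A := IsLocallyNoetherian.component_noetherian ⟨V, hV⟩
  let j : Spec (CommRingCat.of A) ⟶ Y := hV.fromSpec
  haveI : IsOpenImmersion j := inferInstanceAs (IsOpenImmersion hV.fromSpec)
  let X' := pullback f j
  letI : X'.Over (Spec (CommRingCat.of A)) := ⟨pullback.snd f j⟩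
  haveI : IsProper (X' ↘ Spec (CommRingCat.of A)) := MorphismProperty.pullback_snd _ _ ‹IsProper f›
  haveI : Flat (X' ↘ Spec (CommRingCat.of A)) := MorphismProperty.pullback_snd _ _ ‹Flat f›
  obtain ⟨y', rfl⟩ : y ∈ Set.range j := by rw [show Set.range j = (V : Set Y) from hV.range_fromSpec]; exact hyV
  have hy' : SepRoots ((X' ↘ Spec (CommRingCat.of A)).fiberToSpecResidueField y') := by
    obtain ⟨c, hc⟩ := isPullback_morphismRestrict_fiber (IsPullback.of_hasPullback f j) y' inferInstance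
    exact hy.of_isPullback hc
  obtain ⟨W, hW, hbc⟩ := exists_gammaBC (A := A) (X := X') y' hy'
  exact ⟨j ''ᵁ W, ⟨y', hW, rfl⟩, GammaBC.image (IsPullback.of_hasPullback f j) hbc⟩

/-- Near a point with a reduced geometric fibre. -/
theorem exists_gammaBC_of_isReduced {X S : Scheme.{u}} (f : X ⟶ S) [IsProper f] [Flat f]
    [LocallyOfFinitePresentation f] {Ω : Type u} [Field Ω] [IsAlgClosed Ω] (t : Spec (CommRingCat.of Ω) ⟶ S)
    [IsReduced (pullback f t)] : ∃ U : S.Opens, t (IsLocalRing.closedPoint Ω) ∈ U ∧ GammaBC (f ∣_ U) := by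
  set s := t (IsLocalRing.closedPoint Ω)
  obtain ⟨V, hV, hsV, -⟩ := exists_isAffineOpen_mem_and_subset (x := s) (U := (⊤ : S.Opens)) trivial
  haveI : IsAffine (V : Scheme.{u}) := hV
  let eV : (V : Scheme.{u}) ≅ Spec Γ((V : Scheme.{u}), ⊤) := (V : Scheme.{u}).isoSpec
  let f' : ((f ⁻¹ᵁ V : X.Opens) : Scheme.{u}) ⟶ Spec (CommRingCat.of Γ((V : Scheme.{u}), ⊤)) := (f ∣_ V) ≫ eV.hom
  haveI : IsProper (f ∣_ V) := IsZariskiLocalAtTarget.restrict ‹IsProper f› V
  haveI : IsProper f' := inferInstanceAs (IsProper ((f ∣_ V) ≫ eV.hom))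
  haveI : Flat f' := inferInstanceAs (Flat ((f ∣_ V) ≫ eV.hom))
  haveI : LocallyOfFinitePresentation f' := inferInstanceAs (LocallyOfFinitePresentation ((f ∣_ V) ≫ eV.hom))
  obtain ⟨A₁, _, _, _, X₁, f₁, _, _, g, hg⟩ := exists_proper_flat_model Γ((V : Scheme.{u}), ⊤) f'
  let π := eV.hom ≫ Spec.map (CommRingCat.ofHom (algebraMap A₁ Γ((V : Scheme.{u}), ⊤)))
  have hsq : IsPullback g (f ∣_ V) f₁ π := by
    have := (show IsPullback (𝟙 _) (f ∣_ V) f' eV.hom from IsPullback.of_horiz_isIso ⟨Category.id_comp _⟩).paste_horiz hg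
    rwa [Category.id_comp] at this
  obtain ⟨t', ht'⟩ : ∃ t' : Spec (CommRingCat.of Ω) ⟶ (V : Scheme.{u}), t' ≫ V.ι = t := by
    refine ⟨IsOpenImmersion.lift V.ι t ?_, IsOpenImmersion.lift_fac _ _ _⟩
    rintro _ ⟨x, rfl⟩
    rw [Scheme.Opens.range_ι, show x = IsLocalRing.closedPoint Ω from @Subsingleton.elim _ (inferInstanceAs (Subsingleton (PrimeSpectrum Ω))) _ _]
    exact hsV
  haveI : IsReduced (pullback f₁ (t' ≫ π)) := by
    have h1 : IsPullback (pullback.fst (f ∣_ V) t' ≫ g) (pullback.snd (f ∣_ V) t') f₁ (t' ≫ π) :=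
      (IsPullback.of_hasPullback _ t').paste_horiz hsq
    have h2 : IsPullback (pullback.fst (f ∣_ V) t' ≫ (f ⁻¹ᵁ V).ι) (pullback.snd (f ∣_ V) t') f t := by
      rw [← ht']
      exact (IsPullback.of_hasPullback _ t').paste_horiz (isPullback_morphismRestrict f V).flip
    haveI : IsReduced (pullback (f ∣_ V) t') := isReduced_of_isOpenImmersion h2.isoPullback.hom
    exact isReduced_of_isOpenImmersion h1.isoPullback.inv
  haveI : IsLocallyNoetherian (Spec (CommRingCat.of A₁)) := inferInstance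
  obtain ⟨W, hW, hbc⟩ := exists_gammaBC_nhd f₁ _ (sepRoots_fibre_of_isReduced f₁ (t' ≫ π))
  refine ⟨V.ι ''ᵁ (π ⁻¹ᵁ W), ⟨t' (IsLocalRing.closedPoint Ω), hW, ?_⟩, ?_⟩
  · show (t' ≫ V.ι) _ = s
    rw [ht']
  refine GammaBC.image (isPullback_morphismRestrict f V).flip ?_
  exact hbc.preimage hsq

end Groth.Agent.CohFlat58
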