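import Mathlib.RingTheory.Flat.Basic
import Mathlib.RingTheory.Flat.Stability
import Mathlib.RingTheory.Filtration
import Mathlib.RingTheory.LocalRing.Module
import Mathlib.RingTheory.Spectrum.Prime.FreeLocus

/-!
Kernels of maps of flat modules with coefficients.
-/

set_option autoImplicit false
set_option linter.style.haveILetI false

universe u

open TensorProduct

noncomputable section

namespace Groth.Agent.CohFlat58

variable {A : Type u} [CommRing A] {C D : Type u} [AddCommGroup C] [Module A C] [AddCommGroup D] [Module A D]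

/-- Kernels with coefficients in `B`-modules lift along surjections. -/
def KerEpi (d : C →ₗ[A] D) (B : Type u) [CommRing B] [Algebra A B] : Prop :=
  ∀ (M' M : Type u) [AddCommGroup M'] [AddCommGroup M] [Module A M'] [Module A M] [Module B M'] [Module B M]
    [IsScalarTower A B M'] [IsScalarTower A B M] (g : M' →ₗ[B] M), Function.Surjective g →
    ∀ x : M ⊗[A] C, d.lTensor M x = 0 →
      ∃ y : M' ⊗[A] C, d.lTensor M' y = 0 ∧ (g.restrictScalars A).rTensor C y = x

theorem comm_lr {M' M E E' : Type u} [AddCommGroup M'] [AddCommGroup M] [Module A M'] [Module A M]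
    [AddCommGroup E] [Module A E] [AddCommGroup E'] [Module A E'] (g : M' →ₗ[A] M) (d : E →ₗ[A] E')
    (y : M' ⊗[A] E) : d.lTensor M (g.rTensor E y) = g.rTensor E' (d.lTensor M' y) := by
  rw [← LinearMap.comp_apply, LinearMap.lTensor_comp_rTensor, ← LinearMap.rTensor_comp_lTensor]
  rfl

theorem cancel_natural {B : Type u} [CommRing B] [Algebra A B] {M' M E : Type u} [AddCommGroup M'] [AddCommGroup M]
    [Module A M'] [Module A M] [Module B M'] [Module B M] [IsScalarTower A B M'] [IsScalarTower A B M]
    [AddCommGroup E] [Module A E] (g : M' →ₗ[B] M) (y : M' ⊗[B] (B ⊗[A] E)) :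
    AlgebraTensorModule.cancelBaseChange A B B M E (g.rTensor (B ⊗[A] E) y) =
      (g.restrictScalars A).rTensor E (AlgebraTensorModule.cancelBaseChange A B B M' E y) := by
  induction y with
  | zero => simp only [map_zero]
  | add a b ha hb => simp only [map_add, ha, hb]
  | tmul m z =>
    induction z with
    | zero => simp only [tmul_zero, map_zero]
    | add a b ha hb => simp only [tmul_add, map_add, ha, hb]
    | tmul b e => simp

theorem cancel_natural_right {B : Type u} [CommRing B] [Algebra A B] {M E E' : Type u} [AddCommGroup M]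
    [Module A M] [Module B M] [IsScalarTower A B M] [AddCommGroup E] [Module A E] [AddCommGroup E'] [Module A E']
    (d : E →ₗ[A] E') (y : M ⊗[B] (B ⊗[A] E)) :
    AlgebraTensorModule.cancelBaseChange A B B M E' ((d.baseChange B).lTensor M y) =
      d.lTensor M (AlgebraTensorModule.cancelBaseChange A B B M E y) := by
  induction y with
  | zero => simp only [map_zero]
  | add a b ha hb => simp only [map_add, ha, hb]
  | tmul m z =>
    induction z with
    | zero => simp only [tmul_zero, map_zero]
    | add a b ha hb => simp only [tmul_add, map_add, ha, hb]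
    | tmul b e => simp

/-- A flat cokernel after base change gives lifting of kernels. -/
theorem kerEpi_of_flat_coker (d : C →ₗ[A] D) (B : Type u) [CommRing B] [Algebra A B]
    [Module.Flat B (B ⊗[A] (D ⧸ LinearMap.range d))] : KerEpi d B := by
  intro M' M _ _ _ _ _ _ _ _ g hg x hx
  let Q := D ⧸ LinearMap.range d
  let q : D →ₗ[A] Q := (LinearMap.range d).mkQ
  let g' := g.restrictScalars A
  let ι : LinearMap.ker g →ₗ[A] M' := (LinearMap.ker g).subtype.restrictScalars A
  have hιg : Function.Exact ι g' := LinearMap.exact_subtype_ker_map g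
  obtain ⟨y₀, rfl⟩ := LinearMap.rTensor_surjective C (g := g') hg x
  obtain ⟨z, hz⟩ := (rTensor_exact D hιg hg (d.lTensor M' y₀)).1 (by rw [← comm_lr, hx])
  have hinj : Function.Injective (ι.rTensor Q) := fun a b h => by
    apply (AlgebraTensorModule.cancelBaseChange A B B (LinearMap.ker g) Q).symm.injective
    apply Module.Flat.rTensor_preserves_injective_linearMap (M := B ⊗[A] Q) (LinearMap.ker g).subtype
      Subtype.val_injective
    apply (AlgebraTensorModule.cancelBaseChange A B B M' Q).injective
    rw [cancel_natural, cancel_natural, LinearEquiv.apply_symm_apply, LinearEquiv.apply_symm_apply]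
    exact h
  have hex := LinearMap.exact_map_mkQ_range d
  have hqz : q.lTensor (LinearMap.ker g) z = 0 := hinj (by
    rw [map_zero, ← comm_lr, hz, ← LinearMap.comp_apply, ← LinearMap.lTensor_comp]
    rw [show q ∘ₗ d = 0 from hex.linearMap_comp_eq_zero, LinearMap.lTensor_zero]
    rfl)
  obtain ⟨v, hv⟩ := (lTensor_exact (LinearMap.ker g) hex (LinearMap.range d).mkQ_surjective z).1 hqz
  refine ⟨y₀ - ι.rTensor C v, ?_, ?_⟩
  · rw [map_sub, comm_lr, hv, hz, sub_self]
  · rw [map_sub, ← LinearMap.comp_apply (g'.rTensor C) (ι.rTensor C), ← LinearMap.rTensor_comp,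
      hιg.linearMap_comp_eq_zero, LinearMap.rTensor_zero]
    simp [g']

/-- Lifting of kernels descends to the base change of the map. -/
theorem KerEpi.baseChange {d : C →ₗ[A] D} {B : Type u} [CommRing B] [Algebra A B] (h : KerEpi d B) :
    KerEpi (d.baseChange B) B := by
  intro M' M _ _ mB' mB mB'' mB₂ hT' hT g hg x hx
  obtain rfl : mB' = mB'' := Module.ext' _ _ fun r m => by
    have := hT'.smul_assoc r (1 : B) m
    simpa using this.symm
  obtain rfl : mB = mB₂ := Module.ext' _ _ fun r m => by
    have := hT.smul_assoc r (1 : B) m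
    simpa using this.symm
  letI : Module A M' := Module.compHom M' (algebraMap A B)
  letI : Module A M := Module.compHom M (algebraMap A B)
  haveI : IsScalarTower A B M' := .of_algebraMap_smul fun _ _ => rfl
  haveI : IsScalarTower A B M := .of_algebraMap_smul fun _ _ => rfl
  let e := AlgebraTensorModule.cancelBaseChange A B B M C
  let e' := AlgebraTensorModule.cancelBaseChange A B B M' C
  obtain ⟨y, hy, hyx⟩ := h M' M g hg (e x) (by rw [← cancel_natural_right, hx, map_zero])
  refine ⟨e'.symm y, (AlgebraTensorModule.cancelBaseChange A B B M' D).injective ?_, e.injective ?_⟩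
  · rw [cancel_natural_right, LinearEquiv.apply_symm_apply, hy, map_zero]
  · show e ((g.restrictScalars B).rTensor _ (e'.symm y)) = e x
    rw [show g.restrictScalars B = g from rfl, cancel_natural, LinearEquiv.apply_symm_apply, hyx]

/-- Exactness of kernels with coefficients. -/
theorem exact_of_kerEpi [Module.Flat A C] [Module.Flat A D] {d : C →ₗ[A] D} (h : KerEpi d A) (M : Type u)
    [AddCommGroup M] [Module A M] :
    Function.Injective ((LinearMap.ker d).subtype.lTensor M) ∧
      Function.Exact ((LinearMap.ker d).subtype.lTensor M) (d.lTensor M) := by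
  let H := LinearMap.ker d
  have hfree : ∀ (N : Type u) [AddCommGroup N] [Module A N] [Module.Flat A N],
      Function.Injective (H.subtype.lTensor N) ∧ Function.Exact (H.subtype.lTensor N) (d.lTensor N) :=
    fun N _ _ _ => ⟨Module.Flat.lTensor_preserves_injective_linearMap _ Subtype.val_injective,
      Module.Flat.lTensor_exact N (LinearMap.exact_subtype_ker_map d)⟩
  have hker : ∀ (N : Type u) [AddCommGroup N] [Module A N] (x : N ⊗[A] H),
      d.lTensor N (H.subtype.lTensor N x) = 0 := fun N _ _ x => by
    rw [← LinearMap.comp_apply, ← LinearMap.lTensor_comp,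
      (LinearMap.exact_subtype_ker_map d).linearMap_comp_eq_zero, LinearMap.lTensor_zero]
    rfl
  have hrange : ∀ (N : Type u) [AddCommGroup N] [Module A N] (x : N ⊗[A] C), d.lTensor N x = 0 →
      ∃ z, H.subtype.lTensor N z = x := by
    intro N _ _ x hx
    have hp : Function.Surjective (Finsupp.linearCombination A (id : N → N)) :=
      Finsupp.linearCombination_surjective A Function.surjective_id
    obtain ⟨y, hy, hyx⟩ := h (N →₀ A) N _ hp x hx
    obtain ⟨z, rfl⟩ := ((hfree (N →₀ A)).2 y).1 hy
    exact ⟨_, (comm_lr (Finsupp.linearCombination A (id : N → N)) H.subtype z).trans hyx⟩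
  suffices hinj : ∀ (F : Type u) [AddCommGroup F] [Module A F] [Module.Flat A F] (π : F →ₗ[A] M),
      Function.Surjective π → Function.Injective (H.subtype.lTensor M) from
    ⟨hinj (M →₀ A) (Finsupp.linearCombination A id) (Finsupp.linearCombination_surjective A Function.surjective_id),
      fun x => ⟨hrange M x, fun ⟨z, hz⟩ => hz ▸ hker M z⟩⟩
  intro F _ _ _ π hπ
  have hιπ : Function.Exact (LinearMap.ker π).subtype π := LinearMap.exact_subtype_ker_map π
  refine (injective_iff_map_eq_zero _).2 fun x hx => ?_
  obtain ⟨y, rfl⟩ := LinearMap.rTensor_surjective H hπ x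
  obtain ⟨k, hk⟩ := (rTensor_exact C hιπ hπ (H.subtype.lTensor F y)).1 (by rw [← comm_lr, hx])
  have hk0 : d.lTensor (LinearMap.ker π) k = 0 :=
    Module.Flat.rTensor_preserves_injective_linearMap (M := D) (LinearMap.ker π).subtype Subtype.val_injective
      (by rw [map_zero, ← comm_lr, hk, hker])
  obtain ⟨z, rfl⟩ := hrange _ k hk0
  have : y = (LinearMap.ker π).subtype.rTensor H z := (hfree F).1 (by rw [comm_lr, hk])
  rw [this, ← LinearMap.comp_apply (π.rTensor H), ← LinearMap.rTensor_comp, hιπ.linearMap_comp_eq_zero,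
    LinearMap.rTensor_zero]
  rfl

theorem flat_ker_of_kerEpi [Module.Flat A C] [Module.Flat A D] {d : C →ₗ[A] D} (h : KerEpi d A) :
    Module.Flat A (LinearMap.ker d) := by
  refine Module.Flat.iff_rTensor_preserves_injective_linearMap.2 fun N N' _ _ _ _ g hg => ?_
  intro a b hab
  apply (exact_of_kerEpi h N).1
  apply Module.Flat.rTensor_preserves_injective_linearMap (M := C) g hg
  rw [← comm_lr, ← comm_lr, hab]

/-- The kernel of reduction modulo an ideal. -/
theorem rTensor_mkQ_eq_zero_iff {R : Type u} [CommRing R] [Algebra A R] (I : Ideal R) (z : R ⊗[A] C) :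
    ((Ideal.Quotient.mkₐ A I).toLinearMap.rTensor C) z = 0 ↔ z ∈ (I • ⊤ : Submodule R (R ⊗[A] C)) := by
  have hex : Function.Exact (I.subtype.restrictScalars A) (Ideal.Quotient.mkₐ A I).toLinearMap := fun r => by
    constructor
    · exact fun hr => ⟨⟨r, Ideal.Quotient.eq_zero_iff_mem.1 hr⟩, rfl⟩
    · rintro ⟨i, rfl⟩
      exact Ideal.Quotient.eq_zero_iff_mem.2 i.2
  constructor
  · intro hz
    obtain ⟨w, rfl⟩ := (rTensor_exact C hex Ideal.Quotient.mk_surjective z).1 hz
    induction w with
    | zero => simp
    | add a b ha hb =>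
      rw [map_add]
      refine add_mem (ha ?_) (hb ?_) <;> exact (rTensor_exact C hex Ideal.Quotient.mk_surjective _).2 ⟨_, rfl⟩
    | tmul i c =>
      rw [LinearMap.rTensor_tmul, show I.subtype.restrictScalars A i = (i : R) • (1 : R) by simp,
        ← TensorProduct.smul_tmul']
      exact Submodule.smul_mem_smul i.2 trivial
  · intro hz
    refine Submodule.smul_induction_on hz (fun r hr w _ => ?_) (fun a b ha hb => by rw [map_add, ha, hb, add_zero])
    induction w with
    | zero => simp
    | add a b ha hb => rw [smul_add, map_add, ha trivial, hb trivial, add_zero]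
    | tmul s c =>
      rw [TensorProduct.smul_tmul', LinearMap.rTensor_tmul]
      simp [Ideal.Quotient.eq_zero_iff_mem.2 hr]

/-- The local criterion: kernels modulo powers of the maximal ideal reaching those of the closed fibre. -/
theorem free_coker_of_forall_pow {R : Type u} [CommRing R] [IsLocalRing R] [IsNoetherianRing R] {F G : Type u}
    [AddCommGroup F] [Module R F] [Module.Finite R F] [AddCommGroup G] [Module R G] [Module.Finite R G]
    [Module.Free R G] (d : F →ₗ[R] G)
    (h : ∀ (n : ℕ) (x : F), d x ∈ IsLocalRing.maximalIdeal R • (⊤ : Submodule R G) →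
      ∃ x', x' - x ∈ IsLocalRing.maximalIdeal R • (⊤ : Submodule R F) ∧
        d x' ∈ IsLocalRing.maximalIdeal R ^ (n + 1) • (⊤ : Submodule R G)) :
    Module.Free R (G ⧸ LinearMap.range d) := by
  let m := IsLocalRing.maximalIdeal R
  let D' := LinearMap.range d
  refine Module.free_of_lTensor_residueField_injective D'.subtype D'.mkQ D'.mkQ_surjective
    (LinearMap.exact_subtype_mkQ D') ((injective_iff_map_eq_zero _).2 fun z hz => ?_)
  obtain ⟨e, rfl⟩ : ∃ e : D', (1 : IsLocalRing.ResidueField R) ⊗ₜ[R] e = z := by
    clear hz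
    induction z with
    | zero => exact ⟨0, by simp⟩
    | add a b ha hb =>
      obtain ⟨a', rfl⟩ := ha
      obtain ⟨b', rfl⟩ := hb
      exact ⟨a' + b', tmul_add _ _ _⟩
    | tmul c e =>
      obtain ⟨r, rfl⟩ := Ideal.Quotient.mk_surjective c
      exact ⟨r • e, by rw [← smul_tmul, Algebra.smul_def, mul_one]; rfl⟩
  obtain ⟨x, hx⟩ := e.2
  have h1 : d x ∈ m • (⊤ : Submodule R G) := by
    let q : IsLocalRing.ResidueField R ⊗[R] G ≃ₗ[R] G ⧸ (m • ⊤ : Submodule R G) :=
      TensorProduct.quotTensorEquivQuotSMul G m
    have h0 : q ((1 : IsLocalRing.ResidueField R) ⊗ₜ[R] (e : G)) = 0 := (congrArg q hz).trans q.map_zero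
    rw [hx, ← Submodule.Quotient.mk_eq_zero]
    exact ((TensorProduct.quotTensorEquivQuotSMul_mk_tmul m 1 (e : G)).trans
      (congrArg _ (one_smul R (e : G)))).symm.trans h0
  obtain ⟨k, hk⟩ := Ideal.exists_pow_inf_eq_pow_smul m D'
  obtain ⟨x', hx', hdx'⟩ := h k x h1
  have h2 : d x' ∈ m • D' := by
    have h3 : d x' ∈ m ^ (k + 1) • (⊤ : Submodule R G) ⊓ D' := ⟨hdx', LinearMap.mem_range_self d x'⟩
    rw [hk (k + 1) (by omega), show k + 1 - k = 1 by omega, pow_one] at h3
    exact Submodule.smul_mono le_rfl inf_le_right h3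
  have h4 : (e : G) ∈ m • D' := by
    rw [← hx, show d x = d x' - d (x' - x) by rw [map_sub]; abel]
    refine sub_mem h2 ?_
    rw [show D' = (⊤ : Submodule R F).map d from LinearMap.range_eq_map d, ← Submodule.map_smul'']
    exact Submodule.mem_map_of_mem hx'
  have h5 : e ∈ m • (⊤ : Submodule R D') := by
    have h4' : (e : G) ∈ Submodule.map D'.subtype (m • (⊤ : Submodule R D')) := by
      rw [Submodule.map_smul'', Submodule.map_top, Submodule.range_subtype]; exact h4
    clear h4; rename' h4' => h4
    obtain ⟨e', he', hee⟩ := h4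
    obtain rfl : e' = e := Subtype.ext hee
    exact he'
  let q : IsLocalRing.ResidueField R ⊗[R] D' ≃ₗ[R] D' ⧸ (m • ⊤ : Submodule R D') :=
    TensorProduct.quotTensorEquivQuotSMul D' m
  refine q.injective (Eq.trans ?_ q.map_zero.symm)
  refine ((TensorProduct.quotTensorEquivQuotSMul_mk_tmul m 1 e).trans (congrArg _ (one_smul R e))).trans ?_
  exact (Submodule.Quotient.mk_eq_zero _).2 h5

end Groth.Agent.CohFlat58
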