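import Groth.Agent.CohFlat58.Kernel
import Mathlib.Dynamics.Newton
import Mathlib.RingTheory.TensorProduct.Maps
import Mathlib.LinearAlgebra.TensorProduct.RightExactness
import Mathlib.RingTheory.Nilpotent.Lemmas

/-!
Lifting separable roots in equalisers of algebras along nilpotent thickenings.
-/

set_option autoImplicit false
set_option linter.style.haveILetI false

universe u

open TensorProduct Polynomial

noncomputable section

namespace Groth.Agent.CohFlat58

variable {A : Type u} [CommRing A] {C₀ C₁ : Type u} [CommRing C₀] [Algebra A C₀] [CommRing C₁] [Algebra A C₁]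

/-- The difference of two restriction maps. -/
def diff (r₁ r₂ : C₀ →ₐ[A] C₁) : C₀ →ₗ[A] C₁ := r₁.toLinearMap - r₂.toLinearMap

theorem map_id_eq_lTensor {B : Type u} [CommRing B] [Algebra A B] (r : C₀ →ₐ[A] C₁) (x : B ⊗[A] C₀) :
    Algebra.TensorProduct.map (AlgHom.id A B) r x = r.toLinearMap.lTensor B x := rfl

theorem diff_lTensor_eq_zero_iff (r₁ r₂ : C₀ →ₐ[A] C₁) {B : Type u} [CommRing B] [Algebra A B] (x : B ⊗[A] C₀) :
    (diff r₁ r₂).lTensor B x = 0 ↔
      Algebra.TensorProduct.map (AlgHom.id A B) r₁ x = Algebra.TensorProduct.map (AlgHom.id A B) r₂ x := by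
  rw [diff, LinearMap.lTensor_sub, LinearMap.sub_apply, sub_eq_zero]
  rfl

theorem ext_of_root {R S : Type u} [CommRing R] [CommRing S] [Algebra R S] (P : R[X]) {a b : S}
    (ha : aeval a P = 0) (hb : aeval b P = 0) (hu : IsUnit (aeval a (derivative P)))
    (hd : IsNilpotent (a - b)) : a = b :=
  (existsUnique_nilpotent_sub_and_aeval_eq_zero (x := a) (P := P) (by rw [ha]; exact IsNilpotent.zero) hu).unique
    ⟨by simp, ha⟩ ⟨hd, hb⟩

theorem isNilpotent_of_map_eq_zero {B B' : Type u} [CommRing B] [Algebra A B] [CommRing B'] [Algebra A B']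
    (π : B' →ₐ[A] B) (hπ : Function.Surjective π) (hnil : ∀ b, π b = 0 → IsNilpotent b) (C : Type u)
    [CommRing C] [Algebra A C] (z : B' ⊗[A] C) (hz : Algebra.TensorProduct.map π (AlgHom.id A C) z = 0) :
    IsNilpotent z := by
  have hk := Algebra.TensorProduct.map_ker π (AlgHom.id A C) hπ Function.surjective_id
  rw [show RingHom.ker (AlgHom.id A C) = ⊥ from (RingHom.injective_iff_ker_eq_bot _).1 Function.injective_id,
    Ideal.map_bot, sup_bot_eq] at hk
  have hle : RingHom.ker (Algebra.TensorProduct.map π (AlgHom.id A C)) ≤ nilradical (B' ⊗[A] C) := by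
    rw [hk, Ideal.map_le_iff_le_comap]
    exact fun b hb => (hnil b hb).map (Algebra.TensorProduct.includeLeft : B' →ₐ[A] B' ⊗[A] C)
  exact hle hz

/-- Separable roots in the equaliser lift along nilpotent thickenings. -/
theorem exists_lift_of_root (r₁ r₂ : C₀ →ₐ[A] C₁) {B B' : Type u} [CommRing B] [Algebra A B] [CommRing B']
    [Algebra A B'] (π : B' →ₐ[A] B) (hπ : Function.Surjective π) (hnil : ∀ b, π b = 0 → IsNilpotent b)
    (x : B ⊗[A] C₀) (hx : (diff r₁ r₂).lTensor B x = 0) (P : B'[X])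
    (h0 : aeval x (P.map π.toRingHom) = 0) (h1 : IsUnit (aeval x (derivative (P.map π.toRingHom)))) :
    ∃ y : B' ⊗[A] C₀, (diff r₁ r₂).lTensor B' y = 0 ∧ π.toLinearMap.rTensor C₀ y = x := by
  let Φ : ∀ (C : Type u) [CommRing C] [Algebra A C], B' ⊗[A] C →ₐ[A] B ⊗[A] C := fun C _ _ =>
    Algebra.TensorProduct.map π (AlgHom.id A C)
  have hΦ : ∀ (C : Type u) [CommRing C] [Algebra A C] (a : B' ⊗[A] C) (Q : B'[X]),
      Φ C (aeval a Q) = aeval (Φ C a) (Q.map π.toRingHom) := fun C _ _ a Q => by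
    rw [aeval_def, aeval_def, eval₂_map]
    show (Φ C).toRingHom _ = _
    rw [hom_eval₂]
    congr 1
  have hsurj : Function.Surjective (Φ C₀) := TensorProduct.map_surjective hπ Function.surjective_id
  have hnil' := fun (C : Type u) [CommRing C] [Algebra A C] => isNilpotent_of_map_eq_zero π hπ hnil C
  have hunit : ∀ (C : Type u) [CommRing C] [Algebra A C] (z : B' ⊗[A] C), Function.Surjective (Φ C) →
      IsUnit (Φ C z) → IsUnit z := fun C _ _ z hs hz => by
    obtain ⟨v, hv⟩ := hz.exists_right_inv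
    obtain ⟨w, rfl⟩ := hs v
    have : IsUnit (z * w) := by
      rw [← add_sub_cancel (1 : B' ⊗[A] C) (z * w)]
      exact (hnil' C (z * w - 1) (by rw [map_sub, map_mul, map_one, hv, sub_self])).isUnit_one_add
    exact isUnit_of_mul_isUnit_left this
  obtain ⟨x₀, hx₀⟩ := hsurj x
  obtain ⟨r, ⟨hr, hr0⟩, -⟩ := existsUnique_nilpotent_sub_and_aeval_eq_zero (x := x₀) (P := P)
    (hnil' C₀ _ (by show Φ C₀ _ = 0; rw [hΦ, hx₀, h0]))
    (hunit C₀ _ hsurj (by rw [hΦ, hx₀, ← derivative_map]; exact h1))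
  have hrx : Φ C₀ r = x := by
    have hd : IsNilpotent (x - Φ C₀ r) := by
      rw [← hx₀, ← map_sub]
      exact hr.map _
    exact (ext_of_root _ h0 (by rw [← hΦ, hr0, map_zero]) h1 hd).symm
  refine ⟨r, (diff_lTensor_eq_zero_iff r₁ r₂ r).2 ?_, hrx⟩
  let R : (C₀ →ₐ[A] C₁) → (B' ⊗[A] C₀ →ₐ[B'] B' ⊗[A] C₁) := fun ρ => Algebra.TensorProduct.map (AlgHom.id B' B') ρ
  have hRR : ∀ ρ z, R ρ z = Algebra.TensorProduct.map (AlgHom.id A B') ρ z := fun ρ z => rfl
  have hcomm : ∀ ρ z, Φ C₁ (Algebra.TensorProduct.map (AlgHom.id A B') ρ z) =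
      Algebra.TensorProduct.map (AlgHom.id A B) ρ (Φ C₀ z) := fun ρ z => by
    induction z with
    | zero => simp only [map_zero]
    | add a b ha hb => simp only [map_add, ha, hb]
    | tmul b c => rfl
  rw [← hRR, ← hRR]
  refine ext_of_root P ?_ ?_ ?_ ?_
  · rw [aeval_algHom_apply, hr0, map_zero]
  · rw [aeval_algHom_apply, hr0, map_zero]
  · rw [aeval_algHom_apply]
    exact (hunit C₀ _ hsurj (by rw [hΦ, hrx, ← derivative_map]; exact h1)).map _
  · refine hnil' C₁ _ ?_
    show Φ C₁ _ = 0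
    rw [map_sub, hRR, hRR, hcomm, hcomm, hrx, (diff_lTensor_eq_zero_iff r₁ r₂ x).1 hx, sub_self]

end Groth.Agent.CohFlat58
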