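import Groth.Agent.CohFlat58.BaseChange
import Mathlib.RingTheory.Etale.Field
import Mathlib.FieldTheory.Separable
import Mathlib.RingTheory.RingHom.Flat
import Mathlib.RingTheory.RingHom.Finite
import Mathlib.RingTheory.RingHom.FinitePresentation

/-!
Cohomological flatness in degree zero near fibres with étale algebra of global functions.
-/

set_option autoImplicit false
set_option maxSynthPendingDepth 6
set_option synthInstance.maxHeartbeats 200000
set_option linter.style.haveILetI false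

universe u

open CategoryTheory CategoryTheory.Limits AlgebraicGeometry TopologicalSpace Opposite TensorProduct Polynomial

noncomputable section

namespace Groth.Agent.CohFlat58

/-- Every global function is a root of a separable polynomial over the functions of the base. -/
def SepRoots {Z T : Scheme.{u}} (p : Z ⟶ T) : Prop :=
  ∀ z : Γ(Z, ⊤), ∃ P : Γ(T, ⊤)[X], P.eval₂ p.appTop.hom z = 0 ∧ IsUnit (P.derivative.eval₂ p.appTop.hom z)

/-- Global functions are finite flat and commute with base change. -/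
def GammaBC {X S : Scheme.{u}} (f : X ⟶ S) : Prop :=
  ∀ ⦃T : Scheme.{u}⦄ [IsAffine T] (t : T ⟶ S) ⦃XT : Scheme.{u}⦄ (a : XT ⟶ X) (q : XT ⟶ T), IsPullback a q f t →
    (q.appTop.hom.Finite ∧ q.appTop.hom.FinitePresentation) ∧ q.appTop.hom.Flat ∧
      ∀ ⦃T' : Scheme.{u}⦄ [IsAffine T'] (π : T' ⟶ T) ⦃XT' : Scheme.{u}⦄ (b : XT' ⟶ XT) (q' : XT' ⟶ T'),
        IsPullback b q' q π → IsPushout π.appTop q.appTop q'.appTop b.appTop

theorem GammaBC.baseChange {X S X' S' : Scheme.{u}} {f : X ⟶ S} (hf : GammaBC f) {g : S' ⟶ S} {a : X' ⟶ X}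
    {f' : X' ⟶ S'} (h : IsPullback a f' f g) : GammaBC f' :=
  fun _ _ t _ a' q hq => hf (t ≫ g) (a' ≫ a) q (hq.paste_horiz h)

theorem exists_separable_root {k B : Type u} [Field k] [CommRing B] [Algebra k B] [Algebra.EssFiniteType k B]
    [Algebra.FormallyEtale k B] (z : B) : ∃ P : k[X], aeval z P = 0 ∧ IsUnit (aeval z P.derivative) := by
  classical
  obtain ⟨I, _, Ai, _, _, e, hsep⟩ := (Algebra.FormallyEtale.iff_exists_algEquiv_prod k B).1 ‹Algebra.FormallyEtale k B›
  letI := Fintype.ofFinite I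
  let s := Finset.univ.image fun i => minpoly k (e z i)
  have hmon : ∀ P ∈ s, ∃ i, minpoly k (e z i) = P := fun P hP => by
    obtain ⟨i, -, rfl⟩ := Finset.mem_image.1 hP; exact ⟨i, rfl⟩
  have hsepP : (∏ P ∈ s, P).Separable := by
    refine separable_prod' (fun P hP Q hQ hne => ?_) fun P hP => ?_
    · obtain ⟨i, rfl⟩ := hmon P hP
      obtain ⟨j, rfl⟩ := hmon Q hQ
      haveI := hsep i; haveI := hsep j
      have hi := minpoly.irreducible (Algebra.IsIntegral.isIntegral (R := k) (e z i))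
      have hj := minpoly.irreducible (Algebra.IsIntegral.isIntegral (R := k) (e z j))
      refine hi.coprime_iff_not_dvd.2 fun hdvd => hne ?_
      exact eq_of_monic_of_associated (minpoly.monic (Algebra.IsIntegral.isIntegral _))
        (minpoly.monic (Algebra.IsIntegral.isIntegral _)) (hi.associated_of_dvd hj hdvd)
    · obtain ⟨i, rfl⟩ := hmon P hP
      haveI := hsep i
      exact Algebra.IsSeparable.isSeparable k (e z i)
  have h0 : aeval z (∏ P ∈ s, P) = 0 := by
    apply e.injective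
    rw [map_zero, ← aeval_algHom_apply]
    funext i
    rw [Pi.zero_apply, ← Pi.evalAlgHom_apply k Ai i (aeval (e z) _), ← aeval_algHom_apply]
    obtain ⟨Q, hQ⟩ := Finset.dvd_prod_of_mem (fun P : k[X] => P)
      (Finset.mem_image_of_mem (fun i => minpoly k (e z i)) (Finset.mem_univ i))
    rw [hQ, map_mul]
    show aeval (e z i) (minpoly k (e z i)) * _ = 0
    rw [minpoly.aeval, zero_mul]
  obtain ⟨a, b, hab⟩ := hsepP
  refine ⟨_, h0, IsUnit.of_mul_eq_one (aeval z b) ?_⟩
  have := congrArg (aeval z) hab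
  rwa [map_add, map_mul, h0, mul_zero, zero_add, map_mul, map_one, mul_comm] at this

theorem sepRoots_of_etale {Z T : Scheme.{u}} (p : Z ⟶ T) {k : Type u} [Field k] (e : k ≃+* Γ(T, ⊤))
    [Algebra k Γ(Z, ⊤)] (halg : ∀ c, algebraMap k Γ(Z, ⊤) c = p.appTop (e c)) [Algebra.EssFiniteType k Γ(Z, ⊤)]
    [Algebra.FormallyEtale k Γ(Z, ⊤)] : SepRoots p := by
  intro z
  obtain ⟨P, h0, h1⟩ := exists_separable_root (k := k) z
  have he : p.appTop.hom.comp e.toRingHom = algebraMap k Γ(Z, ⊤) := RingHom.ext fun c => (halg c).symm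
  refine ⟨P.map e.toRingHom, ?_, ?_⟩
  · rw [eval₂_map, he]; exact h0
  · rw [derivative_map, eval₂_map, he]; exact h1

variable {A : Type u} [CommRing A] {X : Scheme.{u}} [X.Over (Spec (CommRingCat.of A))]
  {ι : Type u} [Finite ι] {U : ι → X.Opens}
  (hU : ⨆ i, U i = ⊤) (hU' : ∀ (n : ℕ) (i : Fin (n + 1) → ι), IsAffineOpen (Coh69.cOpen U i))

include hU hU' in
/-- Sections over a nilpotent thickening reach those of the closed fibre. -/
theorem exists_lift_of_sepRoots {B B' : Type u} [CommRing B] [Algebra A B] [CommRing B'] [Algebra A B']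
    (π : B' →ₐ[A] B) (hπ : Function.Surjective π) (hnil : ∀ b, π b = 0 → IsNilpotent b)
    {X' : Scheme.{u}} (p : X' ⟶ Spec (CommRingCat.of B)) (g : X' ⟶ X)
    (hsq : IsPullback g p (X ↘ Spec (CommRingCat.of A)) (Spec.map (CommRingCat.ofHom (algebraMap A B))))
    (hp : SepRoots p) (x : B ⊗[A] C₀ U) (hx : (diff (restr (A := A) U 0) (restr (A := A) U 1)).lTensor B x = 0) :
    ∃ y : B' ⊗[A] C₀ U, (diff (restr (A := A) U 0) (restr (A := A) U 1)).lTensor B' y = 0 ∧
      π.toLinearMap.rTensor (C₀ U) y = x := by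
  obtain ⟨z, rfl⟩ := (range_gammaHom U p g hsq hU hU' x).2 hx
  obtain ⟨P, h0, h1⟩ := hp z
  let θ := gammaHom U p g hsq hU'
  let P₀ : B[X] := P.map (Scheme.ΓSpecIso (CommRingCat.of B)).hom.hom
  obtain ⟨P', hP'⟩ := Polynomial.map_surjective π.toRingHom hπ P₀
  have he : ∀ Q : Γ(Spec (CommRingCat.of B), ⊤)[X],
      aeval (θ z) (Q.map (Scheme.ΓSpecIso (CommRingCat.of B)).hom.hom) = θ (Q.eval₂ p.appTop.hom z) := fun Q => by
    rw [aeval_def, eval₂_map, hom_eval₂]
    congr 1
    refine RingHom.ext fun b => ?_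
    obtain ⟨b, rfl⟩ := (Scheme.ΓSpecIso (CommRingCat.of B)).commRingCatIsoToRingEquiv.symm.surjective b
    show algebraMap B _ ((Scheme.ΓSpecIso (CommRingCat.of B)).hom ((Scheme.ΓSpecIso (CommRingCat.of B)).inv b)) = θ _
    rw [Iso.inv_hom_id_apply (C := CommRingCat)]
    refine ((gammaHom_rB U p g hsq hU' b).symm).trans (congrArg θ ?_)
    show ((Scheme.ΓSpecIso (CommRingCat.of B)).inv ≫ p.appLE ⊤ ⊤ le_top) b = _
    rw [show p.appLE ⊤ ⊤ le_top = p.appTop from (Scheme.Hom.app_eq_appLE _).symm]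
    rfl
  exact exists_lift_of_root (restr (A := A) U 0) (restr (A := A) U 1) π hπ hnil (θ z) hx P'
    (by rw [hP', he, h0, map_zero])
    (by rw [hP', derivative_map, he]; exact h1.map θ)

omit [X.Over (Spec (CommRingCat.of A))] [Finite ι] in
/-- The fibre over a point of an affine base, over the residue field of the prime. -/
theorem exists_fibre_sq (f : X ⟶ Spec (CommRingCat.of A)) (y : PrimeSpectrum A)
    (hy : SepRoots (Z := f.fiber y) (f.fiberToSpecResidueField y)) :
    ∃ pκ : f.fiber y ⟶ Spec (CommRingCat.of y.asIdeal.ResidueField),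
      IsPullback (f.fiberι y) pκ f (Spec.map (CommRingCat.ofHom (algebraMap A y.asIdeal.ResidueField))) ∧
        SepRoots pκ := by
  let i := Scheme.Spec.residueFieldIso (CommRingCat.of A) y
  let k := f.fiberToSpecResidueField y ≫ Spec.map i.inv
  refine ⟨k, ?_, ?_⟩
  · refine (IsPullback.of_hasPullback f ((Spec (CommRingCat.of A)).fromSpecResidueField y)).of_iso
      (Iso.refl _) (Iso.refl _) (asIso (Spec.map i.inv)) (Iso.refl _) ?_ ?_ ?_ ?_
    · rw [Iso.refl_hom, Category.comp_id]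
      exact (Category.id_comp _).symm
    · exact (Category.id_comp k).symm
    · rw [Iso.refl_hom, Iso.refl_hom, Category.comp_id, Category.id_comp]
    · rw [Iso.refl_hom, Category.comp_id]
      exact (AlgebraicGeometry.Scheme.Spec.map_residueFieldIso_inv_eq_fromSpecResidueField (CommRingCat.of A) y).symm
  · intro z
    obtain ⟨P, h0, h1⟩ := hy z
    let w := Spec.map i.inv
    haveI : IsIso w.appTop := inferInstanceAs (IsIso (w.app ⊤))
    let e := CategoryTheory.inv w.appTop
    have he : k.appTop.hom.comp e.hom = (f.fiberToSpecResidueField y).appTop.hom := by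
      rw [← CommRingCat.hom_comp]
      congr 1
      show CategoryTheory.inv w.appTop ≫ (f.fiberToSpecResidueField y ≫ w).appTop = _
      rw [Scheme.Hom.comp_appTop, IsIso.inv_hom_id_assoc]
    refine ⟨P.map e.hom, ?_, ?_⟩
    · exact ((eval₂_map e.hom k.appTop.hom z).trans (congrArg (fun φ => eval₂ φ z P) he)).trans h0
    · rw [derivative_map]
      exact ((eval₂_map e.hom k.appTop.hom z).trans (congrArg (fun φ => eval₂ φ z (derivative P)) he)) ▸ h1

include hU hU' in
/-- The functions of a base change as the kernel of the base changed differential. -/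
theorem finite_flat_gamma [Module.Flat A (C₀ U)] [Module.Flat A (C₁ U)] {F G : Type u} [AddCommGroup F] [Module A F]
    [AddCommGroup G] [Module A G] [Module.Finite A F] {dF : F →ₗ[A] G} {s : F →ₗ[A] C₀ U}
    (hmod : IsKerModel dF (diff (restr (A := A) U 0) (restr (A := A) U 1)) s) {B : Type u} [CommRing B] [Algebra A B]
    [IsNoetherianRing B] (hd : KerEpi (diff (restr (A := A) U 0) (restr (A := A) U 1)) B) {X' : Scheme.{u}}
    (p : X' ⟶ Spec (CommRingCat.of B)) (g : X' ⟶ X)
    (hsq : IsPullback g p (X ↘ Spec (CommRingCat.of A)) (Spec.map (CommRingCat.ofHom (algebraMap A B)))) :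
    ((rB p ⊤).Finite ∧ (rB p ⊤).FinitePresentation) ∧ (rB p ⊤).Flat := by
  let d := diff (restr (A := A) U 0) (restr (A := A) U 1)
  letI : Algebra B Γ(X', ⊤) := (rB p ⊤).toAlgebra
  let θ := gammaHom U p g hsq hU'
  let e₁ : Γ(X', ⊤) →ₗ[B] LinearMap.ker (d.baseChange B) :=
    { toFun := fun z => ⟨θ z, (range_gammaHom U p g hsq hU hU' (θ z)).1 ⟨z, rfl⟩⟩
      map_add' := fun a b => Subtype.ext (map_add θ a b)
      map_smul' := fun b z => Subtype.ext (by
        show θ (rB p ⊤ b * z) = b • θ z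
        rw [map_mul, gammaHom_rB, Algebra.smul_def]
        rfl) }
  have he₁ : Function.Bijective e₁ :=
    ⟨fun a b hab => gammaHom_injective U p g hsq hU hU' (congrArg Subtype.val hab),
      fun x => by
        obtain ⟨z, hz⟩ := (range_gammaHom U p g hsq hU hU' x.1).2 x.2
        exact ⟨z, Subtype.ext hz⟩⟩
  let e := LinearEquiv.ofBijective e₁ he₁
  have hfg : (LinearMap.ker (d.baseChange B)).FG := by
    have : LinearMap.ker (d.baseChange B) = (LinearMap.ker (dF.baseChange B)).map (s.baseChange B) := by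
      refine le_antisymm (fun x hx => ?_) ?_
      · obtain ⟨z, hz, hzx⟩ := hmod.surj B x hx
        exact ⟨z, hz, hzx⟩
      · rintro _ ⟨z, hz, rfl⟩
        exact hmod.maps B z hz
    rw [this]
    exact (IsNoetherian.noetherian _).map _
  haveI : Module.Finite B (LinearMap.ker (d.baseChange B)) := Module.Finite.iff_fg.2 hfg
  haveI : Module.Flat B (LinearMap.ker (d.baseChange B)) := flat_ker_of_kerEpi hd.baseChange
  have hfin : (rB p ⊤).Finite := RingHom.finite_algebraMap.2 (Module.Finite.equiv e.symm)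
  exact ⟨⟨hfin, RingHom.FinitePresentation.of_finiteType.1 hfin.finiteType⟩,
    RingHom.flat_algebraMap_iff.2 (Module.Flat.of_linearEquiv e)⟩

omit [X.Over (Spec (CommRingCat.of A))] [Finite ι] in
theorem rB_isoSpec {T Z : Scheme.{u}} [IsAffine T] (q : Z ⟶ T) :
    rB (B := Γ(T, ⊤)) (q ≫ T.isoSpec.hom) ⊤ = q.appTop.hom := by
  show ((Scheme.ΓSpecIso (CommRingCat.of Γ(T, ⊤))).inv ≫ (q ≫ T.isoSpec.hom).appLE ⊤ ⊤ le_top).hom = _
  congr 1
  rw [show (q ≫ T.isoSpec.hom).appLE ⊤ ⊤ le_top = (q ≫ T.isoSpec.hom).appTop from (Scheme.Hom.app_eq_appLE _).symm,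
    Scheme.Hom.comp_appTop, ← Category.assoc]
  refine Eq.trans (congrArg (· ≫ q.appTop) ?_) (Category.id_comp _)
  show (Scheme.ΓSpecIso Γ(T, ⊤)).inv ≫ T.toSpecΓ.appTop = _
  rw [Scheme.toSpecΓ_appTop, Iso.inv_hom_id]
  rfl

/-- The structure of algebra on the functions of an affine scheme over an affine one. -/
theorem spec_appTop {T : Scheme.{u}} [IsAffine T] (u : T ⟶ Spec (CommRingCat.of A)) :
    T.isoSpec.hom ≫ Spec.map ((Scheme.ΓSpecIso (CommRingCat.of A)).inv ≫ u.appTop) = u := by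
  rw [Spec.map_comp, ← Category.assoc, Scheme.isoSpec_hom_naturality, Category.assoc]
  simp [Scheme.isoSpec]

include hU hU' in
/-- From lifting of kernels over a basic open to base change there. -/
theorem gammaBC_of_model [IsNoetherianRing A] [Module.Flat A (C₀ U)] [Module.Flat A (C₁ U)] {F G : Type u}
    [AddCommGroup F] [Module A F] [AddCommGroup G] [Module A G] [Module.Finite A F] {dF : F →ₗ[A] G}
    {s : F →ₗ[A] C₀ U} (hmod : IsKerModel dF (diff (restr (A := A) U 0) (restr (A := A) U 1)) s) (g : A)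
    (hker : ∀ (B : Type u) [CommRing B] [Algebra A B], IsUnit (algebraMap A B g) →
      KerEpi (diff (restr (A := A) U 0) (restr (A := A) U 1)) B) :
    GammaBC ((X ↘ Spec (CommRingCat.of A)) ∣_ PrimeSpectrum.basicOpen g) := by
  let V : (Spec (CommRingCat.of A)).Opens := PrimeSpectrum.basicOpen g
  let f := X ↘ Spec (CommRingCat.of A)
  show GammaBC (f ∣_ V)
  have unit_g : ∀ (T : Scheme.{u}) (t : T ⟶ V),
      IsUnit (((Scheme.ΓSpecIso (CommRingCat.of A)).inv ≫ (t ≫ V.ι).appTop) g) := by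
    intro T t
    have hpre : (t ≫ V.ι) ⁻¹ᵁ V = ⊤ := top_le_iff.1 fun x _ => (t x).2
    have hV : V = (Spec (CommRingCat.of A)).basicOpen ((Scheme.ΓSpecIso (CommRingCat.of A)).inv g) :=
      (basicOpen_eq_of_affine (R := CommRingCat.of A) g).symm
    have hpre2 : (t ≫ V.ι) ⁻¹ᵁ (Spec (CommRingCat.of A)).basicOpen ((Scheme.ΓSpecIso (CommRingCat.of A)).inv g) = ⊤ := by
      rw [← hV]; exact hpre
    rw [Scheme.preimage_basicOpen_top] at hpre2
    exact RingedSpace.isUnit_of_isUnit_germ T.toRingedSpace ⊤ _ fun x hx =>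
      (T.toRingedSpace.mem_basicOpen _ x hx).1 (hpre2.ge trivial)
  have sq : ∀ {T XT : Scheme.{u}} [IsAffine T] (t : T ⟶ V) (a : XT ⟶ (f ⁻¹ᵁ V)) (q : XT ⟶ T),
      IsPullback a q (f ∣_ V) t → IsPullback (a ≫ (f ⁻¹ᵁ V).ι) (q ≫ T.isoSpec.hom) f
        (Spec.map ((Scheme.ΓSpecIso (CommRingCat.of A)).inv ≫ (t ≫ V.ι).appTop)) := fun {T XT} _ t a q hq => by
    refine (hq.paste_horiz (isPullback_morphismRestrict f V).flip).of_iso (Iso.refl _) (Iso.refl _) T.isoSpec
      (Iso.refl _) ?_ ?_ ?_ ?_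
    · simp
    · simp
    · simp
    · rw [Iso.refl_hom, Category.comp_id, spec_appTop]
  have bc : ∀ ⦃T : Scheme.{u}⦄ [IsAffine T] (t : T ⟶ V) ⦃XT : Scheme.{u}⦄ (a : XT ⟶ (f ⁻¹ᵁ V)) (q : XT ⟶ T),
      IsPullback a q (f ∣_ V) t → ∀ ⦃T' : Scheme.{u}⦄ [IsAffine T'] (π : T' ⟶ T) ⦃XT' : Scheme.{u}⦄ (b : XT' ⟶ XT) (q' : XT' ⟶ T'),
        IsPullback b q' q π → IsPushout π.appTop q.appTop q'.appTop b.appTop := by
    intro T _ t XT a q hq T' _ π XT' b q' hq'
    let φ := (Scheme.ΓSpecIso (CommRingCat.of A)).inv ≫ (t ≫ V.ι).appTop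
    let φ' := (Scheme.ΓSpecIso (CommRingCat.of A)).inv ≫ ((π ≫ t) ≫ V.ι).appTop
    letI : Algebra A Γ(T, ⊤) := φ.hom.toAlgebra
    letI : Algebra A Γ(T', ⊤) := φ'.hom.toAlgebra
    have hφ : φ' = φ ≫ π.appTop := by
      show _ = (_ ≫ _) ≫ _
      rw [Category.assoc, ← Scheme.Hom.comp_appTop, ← Category.assoc π]
    let π' : Γ(T, ⊤) →ₐ[A] Γ(T', ⊤) := { π.appTop.hom with commutes' := fun a => congrArg (fun k => k a) hφ.symm }
    have hp : b ≫ (q ≫ T.isoSpec.hom) = (q' ≫ T'.isoSpec.hom) ≫ Spec.map (CommRingCat.ofHom π'.toRingHom) := by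
      rw [← Category.assoc, hq'.w, Category.assoc, Category.assoc,
        show CommRingCat.ofHom π'.toRingHom = π.appTop from rfl, Scheme.isoSpec_hom_naturality]
    have key := isPushout_of_kerEpi U hU hU' (q ≫ T.isoSpec.hom) _ (sq t a q hq) (q' ≫ T'.isoSpec.hom) _
      (sq (π ≫ t) (b ≫ a) q' (hq'.paste_horiz hq)) b (Category.assoc _ _ _).symm π' hp
      (hker Γ(T, ⊤) (unit_g T t))
    rwa [rB_isoSpec, rB_isoSpec] at key
  intro T _ t XT a q hq
  refine ⟨?_, ?_, bc t a q hq⟩
  all_goals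
    haveI : IsAffine (V : Scheme.{u}) := IsAffineOpen.Spec_basicOpen (R := CommRingCat.of A) g
    haveI : IsLocallyNoetherian (V : Scheme.{u}) := isLocallyNoetherian_of_isOpenImmersion V.ι
    haveI : IsNoetherianRing Γ(V, ⊤) := IsLocallyNoetherian.component_noetherian ⟨⊤, isAffineOpen_top _⟩
    let φ := (Scheme.ΓSpecIso (CommRingCat.of A)).inv ≫ (𝟙 (V : Scheme.{u}) ≫ V.ι).appTop
    letI : Algebra A Γ(V, ⊤) := φ.hom.toAlgebra
    have h1 := bc (𝟙 _) (𝟙 _) (f ∣_ V) (IsPullback.id_horiz _) t a q hq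
    obtain ⟨h2, h3⟩ := finite_flat_gamma hU hU' hmod (hker Γ(V, ⊤) (unit_g V (𝟙 _))) _ _
      (sq (𝟙 _) (𝟙 _) (f ∣_ V) (IsPullback.id_horiz _))
    rw [rB_isoSpec] at h2 h3
  · haveI := RingHom.isStableUnderCobaseChange_toMorphismProperty_iff.2 RingHom.finite_isStableUnderBaseChange
    haveI := RingHom.isStableUnderCobaseChange_toMorphismProperty_iff.2 RingHom.finitePresentation_isStableUnderBaseChange
    exact ⟨MorphismProperty.of_isPushout (P := RingHom.toMorphismProperty RingHom.Finite) h1 h2.1,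
      MorphismProperty.of_isPushout (P := RingHom.toMorphismProperty RingHom.FinitePresentation) h1 h2.2⟩
  · haveI := RingHom.isStableUnderCobaseChange_toMorphismProperty_iff.2 RingHom.Flat.isStableUnderBaseChange
    exact MorphismProperty.of_isPushout (P := RingHom.toMorphismProperty RingHom.Flat) h1 h3

omit [X.Over (Spec (CommRingCat.of A))] [Finite ι] in
theorem pow_mem_ker {A R : Type u} [CommRing A] [CommRing R] [Algebra A R] (m : Ideal R) (n : ℕ) (b : R ⧸ m ^ (n + 1))
    (hb : Ideal.Quotient.factorₐ A (Ideal.pow_le_self (I := m) (Nat.succ_ne_zero n)) b = 0) : IsNilpotent b := by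
  obtain ⟨r, rfl⟩ := Ideal.Quotient.mk_surjective b
  refine ⟨n + 1, ?_⟩
  rw [← map_pow, Ideal.Quotient.eq_zero_iff_mem]
  exact Ideal.pow_mem_pow (Ideal.Quotient.eq_zero_iff_mem.1 hb) _

/-- The main theorem: near a point of a Noetherian affine base whose fibre has separable functions. -/
theorem exists_gammaBC {A : Type u} [CommRing A] [IsNoetherianRing A] {X : Scheme.{u}}
    [X.Over (Spec (CommRingCat.of A))] [IsProper (X ↘ Spec (CommRingCat.of A))]
    [Flat (X ↘ Spec (CommRingCat.of A))] (y : PrimeSpectrum A)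
    (hy : SepRoots (Z := (X ↘ Spec (CommRingCat.of A)).fiber y) ((X ↘ Spec (CommRingCat.of A)).fiberToSpecResidueField y)) :
    ∃ V : (Spec (CommRingCat.of A)).Opens, y ∈ V ∧ GammaBC ((X ↘ Spec (CommRingCat.of A)) ∣_ V) := by
  obtain ⟨ι, hι, U, hU, hU', hC₀, hC₁, F, G, _, _, _, _, _, _, _, dF, s, hmod⟩ := exists_kerModel (A := A) (X := X)
  obtain ⟨pκ, hsq, hκ⟩ := exists_fibre_sq (X ↘ Spec (CommRingCat.of A)) y hy
  let p := y.asIdeal
  have hfree : Module.Free (Localization.AtPrime p) (Localization.AtPrime p ⊗[A] (G ⧸ LinearMap.range dF)) :=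
    hmod.free_at (Localization.AtPrime p) fun n x hx =>
      exists_lift_of_sepRoots (B := p.ResidueField) hU hU'
        (Ideal.Quotient.factorₐ A (Ideal.pow_le_self (I := IsLocalRing.maximalIdeal (Localization.AtPrime p)) (Nat.succ_ne_zero n)))
        (Ideal.Quotient.factor_surjective (Ideal.pow_le_self (Nat.succ_ne_zero n)))
        (pow_mem_ker _ n) pκ ((X ↘ Spec (CommRingCat.of A)).fiberι y) hsq hκ x hx
  haveI := Module.finitePresentation_of_finite A (G ⧸ LinearMap.range dF)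
  obtain ⟨g, hg, hflat⟩ := exists_flat_tensor p (Localization.AtPrime p) hfree
  refine ⟨PrimeSpectrum.basicOpen g, hg, gammaBC_of_model hU hU' hmod g fun B _ _ hu => ?_⟩
  haveI := hflat B hu
  exact hmod.kerEpi (kerEpi_of_flat_coker dF B)

end Groth.Agent.CohFlat58
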