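import Groth.Agent.CohFlat58.Cech
import Groth.Agent.Mum71.Model
import Groth.Agent.Mum71.Functor
import Groth.Agent.FBase64.ReducedModField
import Mathlib.RingTheory.Localization.BaseChange
import Mathlib.RingTheory.Localization.Free

/-!
A finite free model for the kernel of the Čech differential with coefficients.
-/

set_option autoImplicit false
set_option maxSynthPendingDepth 6
set_option synthInstance.maxHeartbeats 200000
set_option linter.style.haveILetI false

universe u

open CategoryTheory CategoryTheory.Limits AlgebraicGeometry TopologicalSpace Opposite TensorProduct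
open CohIII (T tensorObj)

noncomputable section

namespace Groth.Agent.CohFlat58

open Coh69 CechComp71 FF71

variable {A : Type u} [CommRing A] {F G C D : Type u} [AddCommGroup F] [Module A F] [AddCommGroup G] [Module A G]
  [AddCommGroup C] [Module A C] [AddCommGroup D] [Module A D]

/-- A map modelling the kernel of another one with coefficients in any module. -/
structure IsKerModel (dF : F →ₗ[A] G) (d : C →ₗ[A] D) (s : F →ₗ[A] C) : Prop where
  maps : ∀ (M : Type u) [AddCommGroup M] [Module A M] (z : M ⊗[A] F), dF.lTensor M z = 0 →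
    d.lTensor M (s.lTensor M z) = 0
  surj : ∀ (M : Type u) [AddCommGroup M] [Module A M] (x : M ⊗[A] C), d.lTensor M x = 0 →
    ∃ z, dF.lTensor M z = 0 ∧ s.lTensor M z = x
  lift : ∀ (M' M : Type u) [AddCommGroup M'] [AddCommGroup M] [Module A M'] [Module A M] (g : M' →ₗ[A] M),
    Function.Surjective g → ∀ z : M ⊗[A] F, dF.lTensor M z = 0 → s.lTensor M z = 0 →
      ∃ z', dF.lTensor M' z' = 0 ∧ g.rTensor F z' = z

variable {dF : F →ₗ[A] G} {d : C →ₗ[A] D} {s : F →ₗ[A] C}

theorem IsKerModel.kerEpi (h : IsKerModel dF d s) {B : Type u} [CommRing B] [Algebra A B] (hF : KerEpi dF B) :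
    KerEpi d B := by
  intro M' M _ _ _ _ _ _ _ _ g hg x hx
  obtain ⟨z, hz, rfl⟩ := h.surj M x hx
  obtain ⟨z', hz', rfl⟩ := hF M' M g hg z hz
  exact ⟨s.lTensor M' z', h.maps M' z' hz', (comm_lr _ s z').symm⟩

theorem IsKerModel.lift_of_lift (h : IsKerModel dF d s) {M' M : Type u} [AddCommGroup M'] [AddCommGroup M]
    [Module A M'] [Module A M] (g : M' →ₗ[A] M) (hg : Function.Surjective g)
    (hC : ∀ x : M ⊗[A] C, d.lTensor M x = 0 → ∃ y, d.lTensor M' y = 0 ∧ g.rTensor C y = x)
    (z : M ⊗[A] F) (hz : dF.lTensor M z = 0) : ∃ z', dF.lTensor M' z' = 0 ∧ g.rTensor F z' = z := by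
  obtain ⟨y, hy, hyx⟩ := hC _ (h.maps M z hz)
  obtain ⟨w, hw, rfl⟩ := h.surj M' y hy
  obtain ⟨z', hz', hzz'⟩ := h.lift M' M g hg (g.rTensor F w - z)
    (by rw [map_sub, comm_lr, hw, map_zero, hz, sub_zero])
    (by rw [map_sub, comm_lr, hyx, sub_self])
  exact ⟨w - z', by rw [map_sub, hw, hz', sub_zero], by rw [map_sub, hzz', sub_sub_cancel]⟩

/-- The criterion at a prime. -/
theorem IsKerModel.free_at [IsNoetherianRing A] [Module.Finite A F] [Module.Finite A G] [Module.Free A G]
    (h : IsKerModel dF d s) (R : Type u) [CommRing R] [Algebra A R] [IsLocalRing R] [IsNoetherianRing R]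
    (hC : ∀ (n : ℕ) (x : (R ⧸ IsLocalRing.maximalIdeal R) ⊗[A] C), d.lTensor _ x = 0 →
      ∃ y : (R ⧸ IsLocalRing.maximalIdeal R ^ (n + 1)) ⊗[A] C, d.lTensor _ y = 0 ∧
        (Ideal.Quotient.factorₐ A (Ideal.pow_le_self (I := IsLocalRing.maximalIdeal R)
          (Nat.succ_ne_zero n))).toLinearMap.rTensor C y = x) :
    Module.Free R (R ⊗[A] (G ⧸ LinearMap.range dF)) := by
  let m := IsLocalRing.maximalIdeal R
  let dR := dF.baseChange R
  have hfree : Module.Free R ((R ⊗[A] G) ⧸ LinearMap.range dR) := by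
    refine free_coker_of_forall_pow dR fun n x hx => ?_
    have hx' : dF.lTensor (R ⧸ m) ((Ideal.Quotient.mkₐ A m).toLinearMap.rTensor F x) = 0 := by
      rw [comm_lr, rTensor_mkQ_eq_zero_iff]
      exact hx
    let π : (R ⧸ m ^ (n + 1)) →ₐ[A] R ⧸ m := Ideal.Quotient.factorₐ A (Ideal.pow_le_self (Nat.succ_ne_zero n))
    obtain ⟨z, hz, hzx⟩ := h.lift_of_lift π.toLinearMap
      (Ideal.Quotient.factor_surjective (Ideal.pow_le_self (Nat.succ_ne_zero n))) (hC n) _ hx'
    obtain ⟨x', rfl⟩ := LinearMap.rTensor_surjective F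
      (g := (Ideal.Quotient.mkₐ A (m ^ (n + 1))).toLinearMap) Ideal.Quotient.mk_surjective z
    refine ⟨x', ?_, ?_⟩
    · rw [← rTensor_mkQ_eq_zero_iff, map_sub, sub_eq_zero]
      refine Eq.trans ?_ hzx
      rw [← LinearMap.comp_apply, ← LinearMap.rTensor_comp]
      rfl
    · rw [← rTensor_mkQ_eq_zero_iff]
      exact (comm_lr _ dF x').symm.trans hz
  let q := (LinearMap.range dF).mkQ.baseChange R
  have hq : Function.Surjective q :=
    LinearMap.lTensor_surjective R (LinearMap.range dF).mkQ_surjective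
  have hker : LinearMap.ker q = LinearMap.range dR := by
    ext y
    exact lTensor_exact R (LinearMap.exact_map_mkQ_range dF) (LinearMap.range dF).mkQ_surjective y
  exact Module.Free.of_equiv ((Submodule.quotEquivOfEq _ _ hker.symm).trans (q.quotKerEquivOfSurjective hq))

/-- Flatness of a cokernel after inverting an element. -/
theorem exists_flat_tensor {Q : Type u} [AddCommGroup Q] [Module A Q] [Module.FinitePresentation A Q] (p : Ideal A)
    [p.IsPrime] (R : Type u) [CommRing R] [Algebra A R] [IsLocalization.AtPrime R p] (h : Module.Free R (R ⊗[A] Q)) :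
    ∃ g : A, g ∉ p ∧ ∀ (B : Type u) [CommRing B] [Algebra A B], IsUnit (algebraMap A B g) →
      Module.Flat B (B ⊗[A] Q) := by
  haveI : Nontrivial R := (IsLocalization.AtPrime.isLocalRing R p).toNontrivial
  obtain ⟨g, hg, hfree, -⟩ := Module.FinitePresentation.exists_free_localizedModule_powers
    (M := Q) p.primeCompl (TensorProduct.mk A R Q 1) R
  refine ⟨g, hg, fun B _ _ hu => ?_⟩
  let Ag := Localization (Submonoid.powers g)
  haveI : Module.Flat Ag (Ag ⊗[A] Q) :=
    Module.Flat.of_linearEquiv (LocalizedModule.equivTensorProduct (Submonoid.powers g) Q).symm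
  let ψ : Ag →+* B := IsLocalization.Away.lift g hu
  letI := ψ.toAlgebra
  haveI : IsScalarTower A Ag B := .of_algebraMap_eq fun a => (IsLocalization.Away.lift_eq g hu a).symm
  exact Module.Flat.of_linearEquiv (AlgebraTensorModule.cancelBaseChange A Ag B B Q).symm

variable {X : Scheme.{u}} [X.Over (Spec (CommRingCat.of A))]

theorem comm_rTensor {M E E' : Type u} [AddCommGroup M] [Module A M] [AddCommGroup E] [Module A E]
    [AddCommGroup E'] [Module A E'] (f : E →ₗ[A] E') (x : E ⊗[A] M) :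
    TensorProduct.comm A E' M (f.rTensor M x) = f.lTensor M (TensorProduct.comm A E M x) := by
  induction x with
  | zero => simp only [map_zero]
  | add a b ha hb => simp only [map_add, ha, hb]
  | tmul e m => rfl

/-- Transport of models along isomorphisms. -/
theorem IsKerModel.congr {F G C D C' D' : Type u} [AddCommGroup F] [Module A F] [AddCommGroup G] [Module A G]
    [AddCommGroup C] [Module A C] [AddCommGroup D] [Module A D] [AddCommGroup C'] [Module A C'] [AddCommGroup D']
    [Module A D'] {dF : F →ₗ[A] G} {d : C →ₗ[A] D} {s : F →ₗ[A] C} (h : IsKerModel dF d s) (eC : C ≃ₗ[A] C')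
    (eD : D ≃ₗ[A] D') (d' : C' →ₗ[A] D') (hd : ∀ c, d' (eC c) = eD (d c)) :
    IsKerModel dF d' (eC.toLinearMap ∘ₗ s) := by
  have hdd : ∀ (M : Type u) [AddCommGroup M] [Module A M] (x : M ⊗[A] C),
      d'.lTensor M (eC.lTensor M x) = eD.lTensor M (d.lTensor M x) := fun M _ _ x => by
    induction x with
    | zero => simp only [map_zero]
    | add a b ha hb => simp only [map_add, ha, hb]
    | tmul m c => simp [hd]
  have hs : ∀ (M : Type u) [AddCommGroup M] [Module A M] (z : M ⊗[A] F),
      (eC.toLinearMap ∘ₗ s).lTensor M z = eC.lTensor M (s.lTensor M z) := fun M _ _ z => by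
    rw [LinearMap.lTensor_comp, LinearMap.comp_apply]; rfl
  refine ⟨fun M _ _ z hz => ?_, fun M _ _ x hx => ?_, fun M' M _ _ _ _ g hg z hz hsz => ?_⟩
  · rw [hs, hdd, h.maps M z hz, map_zero]
  · obtain ⟨x, rfl⟩ := (eC.lTensor M).surjective x
    obtain ⟨z, hz, rfl⟩ := h.surj M x ((eD.lTensor M).injective (by rw [← hdd, hx, map_zero]))
    exact ⟨z, hz, hs M z⟩
  · exact h.lift M' M g hg z hz ((eC.lTensor M).injective (by rw [← hs, hsz, map_zero]))

theorem isKerModel_of_quasiIso {L K : CochainComplex (ModuleCat.{u} A) ℤ} (φ : L ⟶ K) (hK : IsZero (K.X (-1)))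
    (hφ : ∀ M : ModuleCat.{u} A, QuasiIso
      (((MonoidalCategory.tensorRight M).mapHomologicalComplex (ComplexShape.up ℤ)).map φ)) :
    IsKerModel (L.d 0 1).hom (K.d 0 1).hom (φ.f 0).hom := by
  have hp : (ComplexShape.up ℤ).prev (0 : ℤ) = -1 := ComplexShape.prev_eq' _ (show (-1 : ℤ) + 1 = 0 by omega)
  have hn : (ComplexShape.up ℤ).next (0 : ℤ) = 1 := ComplexShape.next_eq' _ (show (0 : ℤ) + 1 = 1 by omega)
  let φM := fun (M : ModuleCat.{u} A) => ((MonoidalCategory.tensorRight M).mapHomologicalComplex (ComplexShape.up ℤ)).map φ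
  have key : ∀ M, IsIso (HomologicalComplex.homologyMap (φM M) 0) :=
    fun M => (quasiIsoAt_iff_isIso_homologyMap _ _).1 ((hφ M).quasiIsoAt _)
  have hφd : ∀ (M : Type u) [AddCommGroup M] [Module A M] (z : L.X 0 ⊗[A] M), (L.d 0 1).hom.rTensor M z = 0 →
      (K.d 0 1).hom.rTensor M ((φ.f 0).hom.rTensor M z) = 0 := fun M _ _ z hz => by
    rw [← LinearMap.comp_apply, ← LinearMap.rTensor_comp, ← ModuleCat.hom_comp, φ.comm 0 1, ModuleCat.hom_comp,
      LinearMap.rTensor_comp, LinearMap.comp_apply, hz, map_zero]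
  constructor
  · intro M _ _ z hz
    obtain ⟨z, rfl⟩ := (TensorProduct.comm A (L.X 0) M).surjective z
    rw [← comm_rTensor, ← comm_rTensor, hφd M z ((TensorProduct.comm A _ M).injective
      (by rw [comm_rTensor, hz, map_zero])), map_zero]
  · intro M _ _ x hx
    obtain ⟨x, rfl⟩ := (TensorProduct.comm A (K.X 0) M).surjective x
    have hx' : (K.d 0 1).hom.rTensor M x = 0 :=
      (TensorProduct.comm A _ M).injective (by rw [comm_rTensor, hx, map_zero])
    haveI := key (ModuleCat.of A M)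
    obtain ⟨t, ht⟩ := (ConcreteCategory.bijective_of_isIso
      (HomologicalComplex.homologyMap (φM (ModuleCat.of A M)) 0)).2
      (FCx40.hcls (tensorObj K (ModuleCat.of A M)) 0 1 hn ⟨x, hx'⟩)
    obtain ⟨⟨z, hz⟩, rfl⟩ := FCx40.hcls_surjective (K := tensorObj L (ModuleCat.of A M)) hn t
    have ht' := (FCx40.hcls_map (φM (ModuleCat.of A M)) hn ⟨z, hz⟩).symm.trans ht
    rw [← sub_eq_zero, ← map_sub] at ht'
    obtain ⟨w, hw⟩ := (FCx40.hcls_eq_zero_iff hp hn _).1 ht'
    haveI : Subsingleton ((K.X (-1 : ℤ)) ⊗[A] M) := by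
      haveI := ModuleCat.subsingleton_of_isZero hK
      infer_instance
    have h0 : (φ.f 0).hom.rTensor M z - x = 0 := by
      refine hw.symm.trans ?_
      rw [show w = 0 from @Subsingleton.elim _ ‹_› _ _, map_zero]
      rfl
    refine ⟨TensorProduct.comm A _ M z, ?_, ?_⟩
    · rw [← comm_rTensor, show (L.d 0 1).hom.rTensor M z = 0 from hz, map_zero]
    · rw [← comm_rTensor, sub_eq_zero.1 h0]
  · intro M' M _ _ _ _ g hg z hz hsz
    obtain ⟨z, rfl⟩ := (TensorProduct.comm A (L.X 0) M).surjective z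
    have hz' : (L.d 0 1).hom.rTensor M z = 0 :=
      (TensorProduct.comm A _ M).injective (by rw [comm_rTensor, hz, map_zero])
    haveI := key (ModuleCat.of A M)
    have h0 : FCx40.hcls (tensorObj L (ModuleCat.of A M)) 0 1 hn ⟨z, hz'⟩ = 0 := by
      refine (ConcreteCategory.bijective_of_isIso
        (HomologicalComplex.homologyMap (φM (ModuleCat.of A M)) 0)).1 ?_
      rw [map_zero]
      refine (FCx40.hcls_map (φM (ModuleCat.of A M)) hn ⟨z, hz'⟩).trans ?_
      rw [← map_zero (FCx40.hcls (tensorObj K (ModuleCat.of A M)) 0 1 hn)]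
      refine congrArg _ (Subtype.ext ((TensorProduct.comm A (K.X 0) M).injective ?_))
      exact (comm_rTensor (φ.f 0).hom z).trans (hsz.trans (map_zero _).symm)
    obtain ⟨w, hw⟩ := (FCx40.hcls_eq_zero_iff hp hn _).1 h0
    obtain ⟨w', hw'⟩ := LinearMap.lTensor_surjective (L.X (-1 : ℤ)) hg w
    refine ⟨TensorProduct.comm A _ M' ((L.d (-1) 0).hom.rTensor M' w'), ?_, ?_⟩
    · rw [← comm_rTensor, ← LinearMap.comp_apply ((L.d 0 1).hom.rTensor M'), ← LinearMap.rTensor_comp,
        ← ModuleCat.hom_comp, L.d_comp_d]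
      simp
    · have hz0 : (L.d (-1) 0).hom.rTensor M w = z := hw
      rw [← hz0, ← hw']
      clear hw' hz0 hw
      induction w' with
      | zero => simp only [map_zero]
      | add a b ha hb => simp only [map_add, ha, hb]
      | tmul e m => rfl

/-- The finite free model of the Čech kernel of the structure sheaf. -/
theorem exists_kerModel [IsNoetherianRing A] [IsProper (X ↘ Spec (CommRingCat.of A))]
    [Flat (X ↘ Spec (CommRingCat.of A))] :
    ∃ (ι : Type u) (_ : Finite ι) (U : ι → X.Opens), (⨆ i, U i = ⊤) ∧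
      (∀ (n : ℕ) (i : Fin (n + 1) → ι), IsAffineOpen (cOpen U i)) ∧
      Module.Flat A (C₀ U) ∧ Module.Flat A (C₁ U) ∧
      ∃ (F G : Type u) (_ : AddCommGroup F) (_ : Module A F) (_ : AddCommGroup G) (_ : Module A G)
        (_ : Module.Finite A F) (_ : Module.Finite A G) (_ : Module.Free A G) (dF : F →ₗ[A] G)
        (s : F →ₗ[A] C₀ U), IsKerModel dF (diff (restr (A := A) U 0) (restr (A := A) U 1)) s := by
  let O := Coh.structureModule X
  have hO : Coh.IsCoh O := FBase64.RedField.isCoh_structure X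
  have hfl := FBase64.RedField.isFlatOver_structure (X ↘ Spec (CommRingCat.of A))
  haveI := hO.1
  obtain ⟨ι, hι, U, L, φ, N, hU, hU', hL, -, hφ⟩ := Mum71.exists_model A O hO hfl
  let K := Mum71.chCx A U O
  let eC : K.X 0 ≃ₗ[A] C₀ U :=
    { toFun := fun c => c, invFun := fun c => c, map_add' := fun _ _ => rfl, map_smul' := fun _ _ => rfl
      left_inv := fun _ => rfl, right_inv := fun _ => rfl }
  let eD : K.X 1 ≃ₗ[A] C₁ U :=
    { toFun := fun c => c, invFun := fun c => c, map_add' := fun _ _ => rfl, map_smul' := fun _ _ => rfl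
      left_inv := fun _ => rfl, right_inv := fun _ => rfl }
  haveI := Mum71.flat_chCx O hU' hfl 0
  haveI := Mum71.flat_chCx O hU' hfl 1
  refine ⟨ι, hι, U, hU, hU', Module.Flat.of_linearEquiv eC.symm, Module.Flat.of_linearEquiv eD.symm,
    L.X 0, L.X 1, inferInstance, inferInstance, inferInstance, inferInstance, (hL 0).1, (hL 1).1, (hL 1).2,
    (L.d 0 1).hom, eC.toLinearMap ∘ₗ (φ.f 0).hom,
    (isKerModel_of_quasiIso φ (Mum71.isZero_chX_neg (A := A) U O (-1) (by omega)) hφ).congr eC eD _ fun c => ?_⟩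
  refine funext fun k => ?_
  show restr (A := A) U 0 (eC c) k - restr (A := A) U 1 (eC c) k = eD ((K.d ((0 : ℕ) : ℤ) (((0 : ℕ) : ℤ) + 1)).hom c) k
  rw [Mum71.chCx_d_ofNat U O 0]
  show _ = Mum71.cdL A U O 0 c k
  rw [Mum71.cdL_apply, Fin.sum_univ_two, restr_apply, restr_apply]
  simp only [Fin.val_zero, pow_zero, one_smul, Fin.val_one, pow_one, neg_smul, ← sub_eq_add_neg]
  rfl

end Groth.Agent.CohFlat58
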