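import Groth.Agent.CohFlat58.Etale
import Mathlib.AlgebraicGeometry.Normalization
import Mathlib.AlgebraicGeometry.Morphisms.Affine

/-!
Base change of the Stein factor of a flat proper morphism with geometrically reduced fibres.
-/

set_option autoImplicit false
set_option maxSynthPendingDepth 6
set_option linter.style.haveILetI false

universe u

open CategoryTheory CategoryTheory.Limits AlgebraicGeometry TopologicalSpace

noncomputable section

namespace Groth.Agent.CohFlat58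

theorem isIso_of_isPushout_of_isPushout {A A' B C P Q : CommRingCat.{u}} {t : A ⟶ A'} {φ : A ⟶ B} {θ : B ⟶ C}
    [IsIso θ] {s : A' ⟶ P} {c : B ⟶ P} {q : A' ⟶ Q} {b : C ⟶ Q} (h1 : IsPushout t φ s c)
    (h2 : IsPushout t (φ ≫ θ) q b) (m : P ⟶ Q) (hs : s ≫ m = q) (hc : c ≫ m = θ ≫ b) : IsIso m := by
  have h3 : IsPushout t φ q (θ ≫ b) := h2.of_iso (Iso.refl _) (Iso.refl _) (asIso θ).symm (Iso.refl _)
    (by simp) (by simp) (by simp) (by simp)
  have : m = (h1.isoIsPushout _ _ h3).hom := h1.hom_ext (by simp [hs]) (by simp [hc])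
  rw [this]; infer_instance

/-- On sections over affines the base change of the first Stein factor is an isomorphism. -/
theorem isIso_appTop_compare {X N S T P XT : Scheme.{u}} (θ : X ⟶ N) (φ : N ⟶ S) [IsAffineHom φ] (g : T ⟶ S)
    (hθ : ∀ O, IsIso (θ.app O)) (c : P ⟶ N) (s : P ⟶ T) (hP : IsPullback c s φ g) (m : XT ⟶ P) (b : XT ⟶ X)
    (hX : IsPullback b (m ≫ s) (θ ≫ φ) g) (hm : m ≫ c = b ≫ θ) {V : S.Opens} (hV : IsAffineOpen V)
    (hbc : GammaBC ((θ ≫ φ) ∣_ V)) {U : T.Opens} (hU : IsAffineOpen U) (hUV : U ≤ g ⁻¹ᵁ V) :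
    IsIso (m ∣_ (s ⁻¹ᵁ U)).appTop := by
  haveI : IsAffine (V : Scheme.{u}) := hV
  haveI : IsAffine (U : Scheme.{u}) := hU
  haveI : IsAffine ((φ ⁻¹ᵁ V : N.Opens) : Scheme.{u}) := hV.preimage φ
  let t := g.resLE V U hUV
  have ht : t ≫ V.ι = U.ι ≫ g := Scheme.Hom.resLE_comp_ι g hUV
  have hP0 : IsPullback ((s ⁻¹ᵁ U).ι ≫ c) (s ∣_ U) φ (t ≫ V.ι) := by
    rw [ht]; exact (isPullback_morphismRestrict s U).flip.paste_horiz hP
  have hX0 : IsPullback (((m ≫ s) ⁻¹ᵁ U).ι ≫ b) ((m ≫ s) ∣_ U) (θ ≫ φ) (t ≫ V.ι) := by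
    rw [ht]; exact (isPullback_morphismRestrict (m ≫ s) U).flip.paste_horiz hX
  have hVφ := (isPullback_morphismRestrict φ V).flip
  have hVf := (isPullback_morphismRestrict (θ ≫ φ) V).flip
  have hP1 := IsPullback.of_right' hP0 hVφ
  have hX1 := IsPullback.of_right' hX0 hVf
  have hP2 := isPushout_appTop_of_isPullback hP1.flip
  have hid : IsPullback (𝟙 _) ((θ ≫ φ) ∣_ V) ((θ ≫ φ) ∣_ V) (𝟙 _) := IsPullback.of_horiz_isIso ⟨by simp⟩
  have hX2 := (hbc _ _ _ hid).2.2 t _ _ hX1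
  haveI : IsIso (θ ∣_ (φ ⁻¹ᵁ V)).appTop := isIso_appTop_restrict θ hθ _
  have e : ((θ ≫ φ) ∣_ V).appTop = (φ ∣_ V).appTop ≫ (θ ∣_ (φ ⁻¹ᵁ V)).appTop := by
    rw [morphismRestrict_comp θ φ, Scheme.Hom.comp_appTop]
  rw [e] at hX2
  refine @isIso_of_isPushout_of_isPushout _ _ _ _ _ _ _ _ _ (isIso_appTop_restrict θ hθ _) _ _ _ _ hP2 hX2 _ ?_ ?_
  · exact (Scheme.Hom.comp_appTop (m ∣_ (s ⁻¹ᵁ U)) (s ∣_ U)).symm.trans (congrArg (fun k => Scheme.Hom.appTop k) (morphismRestrict_comp m s U).symm)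
  · refine (Scheme.Hom.comp_appTop (m ∣_ (s ⁻¹ᵁ U)) _).symm.trans (Eq.trans ?_ (Scheme.Hom.comp_appTop _ (θ ∣_ (φ ⁻¹ᵁ V))))
    congr 1
    rw [← cancel_mono (φ ⁻¹ᵁ V).ι]
    refine (Category.assoc _ _ _).trans ((congrArg (m ∣_ (s ⁻¹ᵁ U) ≫ ·) (IsPullback.lift_fst hVφ _ _ _)).trans ?_)
    refine Eq.trans ?_ (Category.assoc _ _ _).symm
    refine Eq.trans ?_ (congrArg (_ ≫ ·) (morphismRestrict_ι θ (φ ⁻¹ᵁ V))).symm
    refine Eq.trans ?_ (Category.assoc _ _ _)
    refine Eq.trans ?_ (congrArg (· ≫ θ) (IsPullback.lift_fst hVf _ _ _)).symm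
    exact (reassoc_of% (morphismRestrict_ι m (s ⁻¹ᵁ U))) c |>.trans ((congrArg (_ ≫ ·) hm).trans (Category.assoc _ _ _).symm)

theorem isIso_of_factor {X' N' P : Scheme.{u}} (θ' : X' ⟶ N') (j : N' ⟶ P) (hθ : ∀ O, IsIso (θ'.app O))
    {m : X' ⟶ P} (hm : θ' ≫ j = m) (W : P.Opens) [IsAffine (W : Scheme.{u})]
    [IsAffine ((j ⁻¹ᵁ W : N'.Opens) : Scheme.{u})] (h : IsIso (m ∣_ W).appTop) : IsIso (j ∣_ W) := by
  subst hm
  haveI := isIso_appTop_restrict θ' hθ (j ⁻¹ᵁ W)
  rw [morphismRestrict_comp, Scheme.Hom.comp_appTop] at h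
  haveI : IsIso (j ∣_ W).appTop :=
    @IsIso.of_isIso_comp_right _ _ _ _ _ (j ∣_ W).appTop (θ' ∣_ (j ⁻¹ᵁ W)).appTop inferInstance h
  refine (MorphismProperty.arrow_mk_iso_iff (MorphismProperty.isomorphisms Scheme)
    (arrowIsoSpecΓOfIsAffine (j ∣_ W))).2 ?_
  show IsIso (Spec.map (j ∣_ W).appTop)
  infer_instance

/-- The formation of the Stein factor commutes with base change. -/
theorem isIso_normalizationPullback {X S T : Scheme.{u}} (f : X ⟶ S) [IsProper f] [Flat f]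
    [LocallyOfFinitePresentation f] (g : T ⟶ S)
    (hred : ∀ (Ω : Type u) [Field Ω] [IsAlgClosed Ω] (σ : Spec (CommRingCat.of Ω) ⟶ S), IsReduced (pullback f σ)) :
    IsIso (f.normalizationPullback g) := by
  choose V hV hVaff hbc using exists_affine_cover_gammaBC f hred
  choose U hU htU hUle using fun t : T => exists_isAffineOpen_mem_and_subset (x := t) (U := g ⁻¹ᵁ V (g t)) (hV (g t))
  let s := pullback.snd f.fromNormalization g
  haveI : IsAffineHom s := MorphismProperty.pullback_snd _ _ inferInstance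
  have hcov : ⨆ t, s ⁻¹ᵁ U t = ⊤ := top_unique fun x _ => Opens.mem_iSup.2 ⟨s x, htU (s x)⟩
  let θ' := (pullback.snd f g).toNormalization
  let m : pullback f g ⟶ pullback f.fromNormalization g :=
    pullback.map _ _ _ _ f.toNormalization (𝟙 _) (𝟙 _) (by simp) (by simp)
  have hm : θ' ≫ f.normalizationPullback g = m :=
    Scheme.Hom.toNormalization_normalizationDesc _ _ _ _
  refine IsZariskiLocalAtTarget.of_iSup_eq_top (P := MorphismProperty.isomorphisms Scheme) _ hcov fun t => ?_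
  haveI : IsAffine ((s ⁻¹ᵁ U t : (pullback f.fromNormalization g).Opens) : Scheme.{u}) := (hU t).preimage s
  haveI : IsAffineHom (f.normalizationPullback g) := inferInstance
  haveI : IsAffine ((f.normalizationPullback g ⁻¹ᵁ (s ⁻¹ᵁ U t) : (pullback.snd f g).normalization.Opens) : Scheme.{u}) :=
    ((hU t).preimage s).preimage _
  refine isIso_of_factor θ' _ (Stein58.isIso_toNormalization_app _) hm (s ⁻¹ᵁ U t) ?_
  refine isIso_appTop_compare f.toNormalization f.fromNormalization g (Stein58.isIso_toNormalization_app f)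
    (pullback.fst _ _) s (IsPullback.of_hasPullback _ _) m (pullback.fst f g) ?_ (pullback.lift_fst ..) (hVaff (g t))
    ?_ (hU t) (hUle t)
  · rw [show m ≫ s = pullback.snd f g from (pullback.lift_snd ..).trans (Category.comp_id _),
      f.toNormalization_fromNormalization]
    exact IsPullback.of_hasPullback f g
  · rw [f.toNormalization_fromNormalization]
    exact hbc (g t)

end Groth.Agent.CohFlat58
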