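import Groth.Agent.CohFlat58.Epi0
import Groth.Agent.LimTop61.AmpleStage
import Groth.Prelude.Def_ClSub2
import Groth.Prelude.Def_ModelsG
import Mathlib.LinearAlgebra.FiniteDimensional.Basic

/-!
Families with only constant functions on the fibres: consequences.
-/

set_option autoImplicit false
set_option maxSynthPendingDepth 6
set_option linter.style.haveILetI false
set_option backward.isDefEq.respectTransparency.types false

universe u

open CategoryTheory CategoryTheory.Limits AlgebraicGeometry TopologicalSpace

noncomputable section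

namespace Groth.Agent.CohFlat58

theorem finrank_gamma_eq_one_iff {k : Type u} [Field k] {Y : Scheme.{u}} (g : Y ⟶ Spec (CommRingCat.of k)) :
    Models.hRank k Y g (Coh.structureModule Y) 0 = 1 ↔ Function.Bijective g.appTop := by
  letI : Y.Over (Spec (CommRingCat.of k)) := ⟨g⟩
  letI := (g.appTop.hom.comp (Scheme.ΓSpecIso (CommRingCat.of k)).inv.hom).toAlgebra
  have he : Function.Bijective (Scheme.ΓSpecIso (CommRingCat.of k)).inv := ConcreteCategory.bijective_of_isIso _
  rw [← Function.Bijective.of_comp_iff g.appTop he]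
  let e : Coh.HH Y (Coh.structureModule Y) 0 ≃ₗ[k] Γ(Y, ⊤) :=
    { toFun := fun x => Serre71.hzero (Coh.structureModule Y) x
      invFun := fun z => (Serre71.hzero (Coh.structureModule Y)).symm z
      map_add' := fun x y => map_add (Serre71.hzero (Coh.structureModule Y)) x y
      map_smul' := fun a x => Serre71.hzero_smul (A := k) (X := Y) (Coh.structureModule Y) a x
      left_inv := fun x => (Serre71.hzero (Coh.structureModule Y)).symm_apply_apply x
      right_inv := fun z => (Serre71.hzero (Coh.structureModule Y)).apply_symm_apply z }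
  show Module.finrank k (Coh.HH Y (Coh.structureModule Y) 0) = 1 ↔ _
  rw [e.finrank_eq]
  refine ⟨fun h => ?_, fun h => ?_⟩
  · haveI := Module.nontrivial_of_finrank_eq_succ h
    refine ⟨(algebraMap k Γ(Y, ⊤)).injective, fun z => ?_⟩
    obtain ⟨c, hc⟩ := exists_smul_eq_of_finrank_eq_one h (one_ne_zero (α := Γ(Y, ⊤))) z
    exact ⟨c, (Algebra.algebraMap_eq_smul_one (A := Γ(Y, ⊤)) c).trans hc⟩
  · rw [← (LinearEquiv.ofBijective (Algebra.linearMap k Γ(Y, ⊤)) h).finrank_eq, Module.finrank_self]

/-- Rank one on an open means constant functions on every fibre over it. -/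
theorem bijective_fibre_of_rank {X S : Scheme.{u}} (f : X ⟶ S) {U : S.Opens} [IsAffine (U : Scheme.{u})]
    (hbc : GammaBC (f ∣_ U)) (h : ∀ p, rankFn (f ∣_ U) p = 1) {s : S} (hs : s ∈ U) :
    Function.Bijective (f.fiberToSpecResidueField s).appTop := by
  obtain ⟨π, hπ⟩ : ∃ π : Spec (S.residueField s) ⟶ (U : Scheme.{u}), π ≫ U.ι = S.fromSpecResidueField s := by
    refine ⟨IsOpenImmersion.lift U.ι _ ?_, IsOpenImmersion.lift_fac _ _ _⟩
    rw [Scheme.range_fromSpecResidueField, Scheme.Opens.range_ι]
    exact Set.singleton_subset_iff.2 hs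
  have h2 : IsPullback (f.fiberι s) (f.fiberToSpecResidueField s) f (π ≫ U.ι) := by
    rw [hπ]; exact IsPullback.of_hasPullback f _
  have hsq := IsPullback.of_right' h2 (isPullback_morphismRestrict f U).flip
  exact bijective_appTop_of_rankFn (hbc.baseChange hsq) fun p => (rankFn_eq hbc π hsq p).trans (h _)

theorem isIso_unitToPush {X Y : Scheme.{u}} (f : X ⟶ Y) (h : ∀ V, IsIso (f.app V)) :
    IsIso (ClSub.unitToPush f) := by
  rw [Scheme.Modules.Hom.isIso_iff_isIso_app]
  intro U
  have hb := (ConcreteCategory.isIso_iff_bijective (f.app U)).1 (h U)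
  exact (ConcreteCategory.isIso_iff_bijective _).2 hb

/-- The first higher direct image of the structure sheaf of a family of curves with constant functions. -/
theorem isFinLocFree_rpush_one {X S : Scheme.{u}} (f : X ⟶ S) [Flat f] [IsProper f] [LocallyOfFinitePresentation f]
    [HasInjectiveResolutions X.Modules] (hdim : ∀ s : S, topologicalKrullDim ↥(f.fiber s) ≤ 1)
    (h : ∀ s, Function.Bijective (f.fiberToSpecResidueField s).appTop) :
    FlatMod.IsFinLocFree ((Coh.Rpush f 1).obj (Coh.structureModule X)) := by
  haveI : (Coh.structureModule X).IsQuasicoherent := QC70.isQuasicoherent_unit (X := X)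
  haveI : Coh.IsQCoh (Coh.structureModule X) := ‹(Coh.structureModule X).IsQuasicoherent›
  have hfl := FBase64.RedField.isFlatOver_structure f
  intro y
  obtain ⟨V, hV, hy, -⟩ := exists_isAffineOpen_mem_and_subset (X := S) (x := y) (U := ⊤) trivial
  obtain ⟨M⟩ := Mum71.exists_cohModel f (Coh.structureModule X) inferInstance hfl hV
  obtain ⟨a, hya, ha⟩ := Mum71.exists_splitsAt_of_epi_bc0 hV M hy (epi_bc0_of_bijective f y (h y).2)
  obtain ⟨b, hyb, hb⟩ := Mum71.exists_vanishAt hV M 2 hy
    (Mum71.subsingleton_fiberH_of_dim (d := 1) (Coh.structureModule X) y (hdim y) (by omega))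
  exact Mum71.exists_free_rpush_nhd hV M (Mum71.splitsAt_d_congr M (by omega) (by omega) hb.2.1)
    (Mum71.splitsAt_d_congr M (by omega) (by omega) ha) hyb hya

end Groth.Agent.CohFlat58
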