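import Groth.Agent.CohFlat58.Main
import Mathlib.AlgebraicGeometry.Morphisms.FlatDescent
import Mathlib.FieldTheory.Perfect
import Mathlib.FieldTheory.IsAlgClosed.Basic

/-!
Functions on proper schemes over fields with a reduced geometric fibre are separable.
-/

set_option autoImplicit false
set_option maxSynthPendingDepth 6
set_option linter.style.haveILetI false

universe u

open CategoryTheory CategoryTheory.Limits AlgebraicGeometry TopologicalSpace Opposite TensorProduct Polynomial

noncomputable section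

namespace Groth.Agent.CohFlat58

/-- An element of an algebra that stays reduced over an algebraically closed field is separable. -/
theorem separable_minpoly_of_isReduced {k Ω B : Type u} [Field k] [Field Ω] [IsAlgClosed Ω] [Algebra k Ω]
    [CommRing B] [Algebra k B] [IsReduced (Ω ⊗[k] B)] {z : B} (hz : IsIntegral k z) :
    (minpoly k z).Separable := by
  classical
  set P := minpoly k z
  let d := P.natDegree
  let w : Ω ⊗[k] B := (1 : Ω) ⊗ₜ[k] z
  let v : (Fin d → k) →ₗ[k] B := Fintype.linearCombination k (fun i : Fin d => z ^ (i : ℕ))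
  have hv : LinearMap.ker v = ⊥ :=
    LinearMap.ker_eq_bot.2 (linearIndependent_pow z).fintypeLinearCombination_injective
  obtain ⟨r, hr⟩ := v.exists_leftInverse_of_injective hv
  have hri : ∀ i j : Fin d, r (z ^ (i : ℕ)) j = if i = j then 1 else 0 := fun i j => by
    have := congrArg (fun φ : (Fin d → k) →ₗ[k] (Fin d → k) => φ (Pi.single i 1) j) hr
    simp only [LinearMap.comp_apply, LinearMap.id_coe, id_eq, v, Fintype.linearCombination_apply_single, one_smul] at this
    rw [this, Pi.single_apply]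
    exact if_congr eq_comm rfl rfl
  have indep : ∀ H : Polynomial Ω, aeval w H = 0 → H.degree < (d : WithBot ℕ) → H = 0 := by
    intro H hH hdeg
    ext j
    rw [coeff_zero]
    by_cases hj : d ≤ j
    · exact coeff_eq_zero_of_degree_lt (hdeg.trans_le (WithBot.coe_le_coe.2 hj))
    let jj : Fin d := ⟨j, not_le.1 hj⟩
    let φ : B →ₗ[k] k := (LinearMap.proj jj).comp r
    let ψ : Ω ⊗[k] B →ₗ[k] Ω := (TensorProduct.rid k Ω).toLinearMap.comp (φ.lTensor Ω)
    have hψ : ∀ (c : Ω) (i : Fin d), ψ (c ⊗ₜ[k] (z ^ (i : ℕ))) = if i = jj then c else 0 := fun c i => by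
      show φ (z ^ (i : ℕ)) • c = _
      rw [show φ (z ^ (i : ℕ)) = r (z ^ (i : ℕ)) jj from rfl, hri]
      split_ifs <;> simp
    have hsum : aeval w H = ∑ i : Fin d, H.coeff i ⊗ₜ[k] (z ^ (i : ℕ)) := by
      rcases eq_or_ne H 0 with rfl | h0
      · simp
      rw [aeval_eq_sum_range' ((natDegree_lt_iff_degree_lt h0).2 hdeg), ← Fin.sum_univ_eq_sum_range]
      refine Finset.sum_congr rfl fun i _ => ?_
      show H.coeff i • ((1 : Ω) ⊗ₜ[k] z) ^ (i : ℕ) = _
      rw [Algebra.TensorProduct.tmul_pow, one_pow, TensorProduct.smul_tmul', smul_eq_mul, mul_one]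
    have := congrArg ψ (hsum.symm.trans hH)
    rw [map_sum, map_zero, Finset.sum_congr rfl fun i _ => hψ _ i] at this
    simpa using this
  refine separable_map (algebraMap k Ω) |>.1 ?_
  rw [PerfectField.separable_iff_squarefree]
  intro x hx
  obtain ⟨q, hq⟩ := hx
  have hP0 : P.map (algebraMap k Ω) ≠ 0 := (minpoly.monic hz).map _ |>.ne_zero
  have hx0 : x ≠ 0 := fun h => hP0 (by rw [hq, h, zero_mul, zero_mul])
  have hroot : aeval w (P.map (algebraMap k Ω)) = 0 := by
    rw [aeval_map_algebraMap]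
    show aeval ((Algebra.TensorProduct.includeRight : B →ₐ[k] Ω ⊗[k] B) z) P = 0
    rw [aeval_algHom_apply, minpoly.aeval, map_zero]
  have hnil : aeval w (x * q) = 0 := by
    refine IsReduced.eq_zero _ ⟨2, ?_⟩
    rw [← map_pow, show (x * q) ^ 2 = P.map (algebraMap k Ω) * q by rw [hq]; ring, map_mul, hroot, zero_mul]
  by_contra hu
  have hdx : 0 < x.degree := degree_pos_of_ne_zero_of_nonunit hx0 hu
  have hxq : x * q ≠ 0 := fun h => hP0 (by rw [hq, mul_assoc, h, mul_zero])
  refine hxq (indep _ hnil ?_)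
  have hdeg : (P.map (algebraMap k Ω)).degree = (d : WithBot ℕ) := by
    rw [degree_map, degree_eq_natDegree (minpoly.monic hz).ne_zero]
  rw [← hdeg, hq, mul_assoc, degree_mul (p := x) (q := x * q)]
  calc (x * q).degree = 0 + (x * q).degree := (zero_add _).symm
    _ < x.degree + (x * q).degree := WithBot.add_lt_add_right (degree_ne_bot.2 hxq) hdx

/-- A proper scheme over a field with reduced base change to an algebraically closed field. -/
theorem sepRoots_of_isReduced {k Ω : Type u} [Field k] [Field Ω] [IsAlgClosed Ω] {Z W : Scheme.{u}}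
    (q : Z ⟶ Spec (CommRingCat.of k)) [IsProper q] (g : Spec (CommRingCat.of Ω) ⟶ Spec (CommRingCat.of k))
    (a : W ⟶ Z) (b : W ⟶ Spec (CommRingCat.of Ω)) (h : IsPullback a b q g) [IsReduced W] : SepRoots q := by
  obtain ⟨φ, rfl⟩ := Spec.map_surjective g
  letI := φ.hom.toAlgebra
  haveI : Flat (Spec.map φ) := (HasRingHomProperty.Spec_iff (P := @Flat)).2 (show φ.hom.Flat from
    RingHom.flat_algebraMap_iff.2 (inferInstance : Module.Flat k Ω))
  have : CompactSpace Z := QuasiCompact.compactSpace_of_compactSpace q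
  have : QuasiSeparatedSpace Z := quasiSeparatedSpace_of_quasiSeparated q
  have hp : IsPushout q.appTop (Spec.map φ).appTop a.appTop b.appTop := by
    have hiso := isIso_pushoutSection_of_isQuasiSeparated_of_flat_right (US := ⊤) (UT := ⊤) (UX := ⊤)
      (UY := ⊤) h (by simp) (by simp) (by simp) (isAffineOpen_top _) (isAffineOpen_top _)
      (by simpa using isCompact_univ) (by simpa using isQuasiSeparated_univ)
    have := (isIso_pushoutSection_iff ..).1 hiso
    have e : ∀ {U V : Scheme.{u}} (f : U ⟶ V) (h : (⊤ : U.Opens) ≤ f ⁻¹ᵁ ⊤), f.appLE ⊤ ⊤ h = f.appTop :=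
      fun f _ => (Scheme.Hom.app_eq_appLE _).symm
    simpa only [e] using this
  let ek := (Scheme.ΓSpecIso (CommRingCat.of k)).commRingCatIsoToRingEquiv
  letI : Algebra k Γ(Z, ⊤) := (q.appTop.hom.comp ek.symm.toRingHom).toAlgebra
  letI : Algebra Ω Γ(W, ⊤) := (b.appTop.hom.comp (Scheme.ΓSpecIso (CommRingCat.of Ω)).inv.hom).toAlgebra
  letI : Algebra Γ(Z, ⊤) Γ(W, ⊤) := a.appTop.hom.toAlgebra
  letI : Algebra k Γ(W, ⊤) := ((algebraMap Γ(Z, ⊤) Γ(W, ⊤)).comp (algebraMap k Γ(Z, ⊤))).toAlgebra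
  haveI : IsScalarTower k Γ(Z, ⊤) Γ(W, ⊤) := .of_algebraMap_eq fun _ => rfl
  have hp' : IsPushout (CommRingCat.ofHom (algebraMap k Ω)) (CommRingCat.ofHom (algebraMap k Γ(Z, ⊤)))
      (CommRingCat.ofHom (algebraMap Ω Γ(W, ⊤))) (CommRingCat.ofHom (algebraMap Γ(Z, ⊤) Γ(W, ⊤))) := by
    refine hp.flip.of_iso (Scheme.ΓSpecIso (CommRingCat.of k)) (Scheme.ΓSpecIso (CommRingCat.of Ω)) (Iso.refl _)
      (Iso.refl _) ?_ ?_ ?_ ?_
    · exact (Scheme.ΓSpecIso_naturality φ).trans rfl
    · rw [Iso.refl_hom, Category.comp_id]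
      show q.appTop = (Scheme.ΓSpecIso (CommRingCat.of k)).hom ≫ (Scheme.ΓSpecIso (CommRingCat.of k)).inv ≫ q.appTop
      rw [Iso.hom_inv_id_assoc]
    · rw [Iso.refl_hom, Category.comp_id]
      show b.appTop = (Scheme.ΓSpecIso (CommRingCat.of Ω)).hom ≫ (Scheme.ΓSpecIso (CommRingCat.of Ω)).inv ≫ b.appTop
      rw [Iso.hom_inv_id_assoc]
    · rw [Iso.refl_hom, Category.comp_id]
      exact (Category.id_comp _).symm
  haveI : IsScalarTower k Ω Γ(W, ⊤) := .of_algebraMap_eq fun c =>
    (congrArg (fun m => m c) hp'.w).symm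
  haveI : Algebra.IsPushout k Ω Γ(Z, ⊤) Γ(W, ⊤) := CommRingCat.isPushout_iff_isPushout.1 hp'
  let e := Algebra.IsPushout.equiv k Ω Γ(Z, ⊤) Γ(W, ⊤)
  haveI : IsReduced (Ω ⊗[k] Γ(Z, ⊤)) := isReduced_of_injective e.toAlgHom e.injective
  intro z
  have hz : IsIntegral k z := by
    have h1 : q.appTop.hom.IsIntegralElem z :=
      isIntegral_appTop_of_universallyClosed q z
    obtain ⟨Q, hQ, hQ0⟩ := h1
    refine ⟨Q.map ek.toRingHom, hQ.map _, ?_⟩
    rw [eval₂_map]
    refine Eq.trans ?_ hQ0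
    congr 1
    exact RingHom.ext fun c => congrArg q.appTop (ek.symm_apply_apply c)
  obtain ⟨a', b', hab⟩ := separable_minpoly_of_isReduced (Ω := Ω) hz
  have he : q.appTop.hom.comp ek.symm.toRingHom = algebraMap k Γ(Z, ⊤) := rfl
  refine ⟨(minpoly k z).map ek.symm.toRingHom, ?_, ?_⟩
  · rw [eval₂_map, he]; exact minpoly.aeval k z
  · rw [derivative_map, eval₂_map, he]
    have := congrArg (aeval z) hab
    rw [map_add, map_mul, minpoly.aeval, mul_zero, zero_add, map_mul, map_one, mul_comm] at this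
    exact IsUnit.of_mul_eq_one _ this

end Groth.Agent.CohFlat58
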